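import Cfsg.Agent.Lib.BrauerReynolds.Recognize

/-!
# The theorems of Brauer and of Brauer–Reynolds
-/

set_option autoImplicit false
set_option linter.style.haveILetI false
set_option linter.unusedSectionVars false

noncomputable section

namespace CfsgLib.BrauerReynolds

open Cfsg CfsgLib.Characters CfsgLib.CyclicDefect
open scoped ComplexConjugate Classical Pointwise

universe u

variable {G : Type u} [Group G]

/-- Brauer's theorem on perfect groups with a self-centralising subgroup of prime order. -/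
theorem main [Finite G] (hperf : commutator G = ⊤) (p : ℕ) [hp : Fact p.Prime] (z : G)
    (hz : orderOf z = p) (hC : Subgroup.centralizer ({z} : Set G) = Subgroup.zpowers z)
    (hn : 2 * Nat.card (Sylow p G) < (p + 1) * (p + 2)) :
    (∃ (F : Type) (_ : Field F) (_ : Fintype F), Fintype.card F = p ∧ 3 < p ∧
      Nonempty (G ≃* Matrix.ProjectiveSpecialLinearGroup (Fin 2) F)) ∨
    (∃ (m : ℕ) (F : Type) (_ : Field F) (_ : Fintype F), Fintype.card F = 2 ^ m ∧ p = 2 ^ m + 1 ∧
      3 < p ∧ Nonempty (G ≃* Matrix.ProjectiveSpecialLinearGroup (Fin 2) F)) := by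
  haveI : Fintype G := Fintype.ofFinite G
  obtain ⟨P, hle⟩ := (IsPGroup.of_card (p := p) (n := 1) (G := Subgroup.zpowers z)
    (by rw [Nat.card_zpowers, hz, pow_one])).exists_le_sylow
  have hPz : (P : Subgroup G) = Subgroup.zpowers z := by
    refine le_antisymm ?_ hle
    haveI : Nontrivial (P : Subgroup G) := (Subgroup.nontrivial_iff_ne_bot _).2 fun e => by
      have := hle (Subgroup.mem_zpowers z)
      rw [e, Subgroup.mem_bot] at this
      rw [this, orderOf_one] at hz
      exact hp.out.one_lt.ne hz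
    haveI := P.2.center_nontrivial
    obtain ⟨⟨w, hw⟩, hw1⟩ := exists_ne (1 : Subgroup.center P)
    have hwz : (w : G) ∈ Subgroup.zpowers z := by
      rw [← hC, Subgroup.mem_centralizer_singleton_iff]
      exact (congrArg Subtype.val (Subgroup.mem_center_iff.1 hw ⟨z, hle (Subgroup.mem_zpowers z)⟩)).symm
    have hgen : Subgroup.zpowers (w : G) = Subgroup.zpowers z := by
      refine Subgroup.eq_of_le_of_card_ge (Subgroup.zpowers_le.2 hwz) (le_of_eq ?_)
      rw [Nat.card_zpowers, Nat.card_zpowers]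
      have h1 : orderOf (w : G) ∣ p := by
        have := orderOf_dvd_of_mem_zpowers hwz
        rwa [hz] at this
      rw [hz, ((Nat.dvd_prime hp.out).1 h1).resolve_left fun e =>
        hw1 (Subtype.ext (Subtype.ext (orderOf_eq_one_iff.1 e)))]
    intro a ha
    rw [← hC, Subgroup.mem_centralizer_singleton_iff]
    obtain ⟨j, hj⟩ := Subgroup.mem_zpowers_iff.1 (hgen.symm ▸ Subgroup.mem_zpowers z)
    rw [← hj]
    exact ((show Commute a (w : G) from
      congrArg Subtype.val (Subgroup.mem_center_iff.1 hw ⟨a, ha⟩)).zpow_right j).eq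
  let L : Loc p G := ⟨P, by rw [hPz, Nat.card_zpowers, hz], z, hz, hle (Subgroup.mem_zpowers z)⟩
  have hLC : L.C = (L.P : Subgroup G) := by
    refine le_antisymm (fun c hc => ?_) L.P_le_C
    show c ∈ (P : Subgroup G)
    rw [hPz, ← hC, Subgroup.mem_centralizer_singleton_iff]
    exact L.mem_C_iff.1 hc
  haveI : Fintype L.Dual := @Fintype.ofFinite _ L.finite_dual
  obtain ⟨n, hS, hG⟩ := card_G L
  have hO : Nat.card L.O = 1 := by
    have h1 := L.card_C
    rw [hLC, L.hP] at h1
    exact (Nat.eq_of_mul_eq_mul_left hp.out.pos ((mul_one p).trans h1)).symm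
  rw [hO, mul_one] at hG
  refine of_hyp (L := L) (n := n) ⟨hperf, hLC, ?_, hG, hS⟩
  rw [hS] at hn
  by_contra hlt
  have : p * (p + 3) ≤ p * (2 * n) := Nat.mul_le_mul_left _ (by omega)
  nlinarith

/-- A `p'`-element centralising `P` when a character of degree `p - 1` is `-1` on `P#`. -/
theorem O_le_ker {p : ℕ} [hp : Fact p.Prime] [Fintype G] (L : Loc p G) {χ : G → ℂ}
    (hχ : IsCharacter G χ) (h1 : χ 1 = (p : ℂ) - 1)
    (hv : ∀ z ∈ (L.P : Subgroup G), z ≠ 1 → ∀ y ∈ L.C, ¬ p ∣ orderOf y → χ (z * y) = -1)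
    {v : G} (hvO : v ∈ L.O) : χ v = χ 1 := by
  haveI : ((L.P : Subgroup G).subgroupOf L.C).Normal := by
    refine ⟨fun a ha c => ?_⟩
    rw [Subgroup.mem_subgroupOf] at ha ⊢
    rw [Subgroup.coe_mul, Subgroup.coe_mul, Subgroup.coe_inv,
      ← Subgroup.mem_centralizer_iff.1 c.2 _ ha, mul_inv_cancel_right]
    exact ha
  have hC : IsCharacter L.C (fun g : L.C => χ g) := by
    obtain ⟨d, ρ, rfl⟩ := hχ
    exact ⟨d, ρ.comp L.C.subtype, rfl⟩
  have havg := NormalAvg.isCharacter_avgN ((L.P : Subgroup G).subgroupOf L.C) hC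
  have hval : ∀ y : L.C, ¬ p ∣ orderOf (y : G) →
      NormalAvg.avgN ((L.P : Subgroup G).subgroupOf L.C) (fun g : L.C => χ g) y =
        (p : ℂ)⁻¹ * (χ y - ((p : ℂ) - 1)) := by
    intro y hy
    rw [NormalAvg.avgN, Nat.card_congr (Subgroup.subgroupOfEquivOfLe L.P_le_C).toEquiv, L.hP]
    congr 1
    have hsum : (∑ k : (L.P : Subgroup G).subgroupOf L.C, χ (((k : L.C) : G) * (y : G))) =
        ∑ z : (L.P : Subgroup G), χ ((z : G) * (y : G)) :=
      Fintype.sum_equiv (Subgroup.subgroupOfEquivOfLe L.P_le_C).toEquiv _ _ fun k => rfl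
    simp only [Subgroup.coe_mul, hsum]
    rw [← Finset.add_sum_erase _ _ (Finset.mem_univ (1 : (L.P : Subgroup G))),
      Finset.sum_congr rfl fun (z : ↥(L.P : Subgroup G)) hz =>
        hv (z : G) z.2 (fun e => Finset.ne_of_mem_erase hz (Subtype.ext e)) y y.2 hy,
      Finset.sum_const, Finset.card_erase_of_mem (Finset.mem_univ _), Finset.card_univ,
      ← Nat.card_eq_fintype_card, L.hP, nsmul_eq_mul, Nat.cast_sub hp.out.one_le, Nat.cast_one,
      Subgroup.coe_one, one_mul]
    ring
  have h0 := NormalAvg.eq_zero_of_degree_zero havg (by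
    rw [hval 1 (by rw [OneMemClass.coe_one, orderOf_one]; exact hp.out.not_dvd_one),
      OneMemClass.coe_one, h1, sub_self, mul_zero])
  obtain ⟨hvC, hvp⟩ := L.mem_O.1 hvO
  have h2 := hval ⟨v, hvC⟩ hvp
  rw [congrFun h0 _, Pi.zero_apply] at h2
  rw [h1]
  exact sub_eq_zero.1 ((mul_eq_zero.1 h2.symm).resolve_left
    (inv_ne_zero (Nat.cast_ne_zero.2 hp.out.ne_zero)))

/-- A large prime divisor of the order of a simple group gives a trivial `p'`-centraliser. -/
theorem O_eq_bot {p : ℕ} [hp : Fact p.Prime] [Fintype G] [IsSimpleGroup G] (L : Loc p G)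
    (hperf : commutator G = ⊤) {n : ℕ} (hS : Nat.card (Sylow p G) = n * p + 1) (hn : 1 ≤ n)
    (hG : Nat.card G = p * Nat.card L.O * eN L * (n * p + 1))
    (hE : Nat.card L.O * eN L * n < p) (v : G) (hvO : v ∈ L.O) : v = 1 := by
  haveI : Fintype L.Dual := @Fintype.ofFinite _ L.finite_dual
  have he2 := two_le_eN L hperf
  have hep := eN_lt L
  have hnotnormal : ¬ (L.P : Subgroup G).Normal := fun hN => by
    haveI : Subsingleton (Sylow p G) := (Sylow.unique_of_normal L.P hN).instSubsingleton
    rw [Nat.card_of_subsingleton L.P] at hS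
    have : 0 < n * p := Nat.mul_pos hn hp.out.pos
    omega
  have hfixP : ∀ {w : G}, w ∈ L.N → w • L.P = L.P := fun hw =>
    Sylow.smul_eq_iff_mem_normalizer.2 hw
  rcases (show n = 1 ∨ 2 ≤ n by omega) with rfl | hn2
  · -- the action on the Sylow subgroups
    rw [one_mul] at hS
    obtain ⟨hvC, hvp⟩ := L.mem_O.1 hvO
    have hfix : ∀ (Q : Sylow p G) (i : ℕ), Q ≠ L.P → L.x ^ i • Q = Q → p ∣ i := by
      intro Q i hQ hi
      by_contra hpi
      have hx : L.x ∈ MulAction.stabilizer G Q := by
        have h1 : L.x ∈ Subgroup.zpowers (L.x ^ i) := by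
          rw [mem_zpowers_pow_iff, L.hx]
          exact (hp.out.coprime_iff_not_dvd.2 hpi).symm
        exact (Subgroup.zpowers_le.2 (show L.x ^ i ∈ MulAction.stabilizer G Q from hi)) h1
      have hxQ : L.x ∈ (Q : Subgroup G) := by
        have hpz : IsPGroup p (Subgroup.zpowers L.x) := L.zpowers ▸ L.P.2
        have h1 := hpz.inf_normalizer_sylow Q
        have h2 : L.x ∈ Subgroup.zpowers L.x ⊓ Subgroup.normalizer ((Q : Subgroup G) : Set G) :=
          ⟨Subgroup.mem_zpowers _, Sylow.smul_eq_iff_mem_normalizer.1 hx⟩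
        simp only [Sylow.coe_coe] at h1 h2
        rw [h1] at h2
        exact h2.2
      refine hQ (Sylow.ext (Subgroup.eq_of_le_of_card_ge ?_ ?_).symm)
      · rw [← L.zpowers]; exact Subgroup.zpowers_le.2 hxQ
      · rw [Q.card_eq_multiplicity, ← L.P.card_eq_multiplicity]
    have hcomm : Commute v L.x := L.mem_C_iff.1 hvC
    have hfixQ : ∀ Q : Sylow p G, v • Q = Q := by
      intro Q
      by_cases hQ : Q = L.P
      · rw [hQ]; exact hfixP (L.C_le_N hvC)
      have hne : ∀ w : G, w ∈ L.N → w • Q ≠ L.P := fun w hw e =>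
        hQ (smul_left_cancel w (e.trans (hfixP hw).symm))
      let f : Fin p → {S : Sylow p G // S ≠ L.P} := fun i =>
        ⟨L.x ^ (i : ℕ) • Q, hne _ (Subgroup.pow_mem _ (L.C_le_N L.x_mem_C) _)⟩
      have hf : Function.Bijective f := by
        refine (Nat.bijective_iff_injective_and_card f).2 ⟨?_, ?_⟩
        · have key : ∀ i j : Fin p, (i : ℕ) ≤ j → f i = f j → i = j := by
            intro i j hij e
            have e' : L.x ^ (i : ℕ) • Q = L.x ^ (j : ℕ) • Q := congrArg Subtype.val e
            obtain ⟨d, hd⟩ := Nat.exists_eq_add_of_le hij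
            rw [hd, pow_add, mul_smul, smul_left_cancel_iff] at e'
            have h1 := hfix Q d hQ e'.symm
            have : d = 0 := Nat.eq_zero_of_dvd_of_lt h1 (by have := j.2; omega)
            exact Fin.ext (by omega)
          intro i j e
          rcases le_total (i : ℕ) j with h1 | h1
          · exact key i j h1 e
          · exact (key j i h1 e.symm).symm
        · haveI := Fintype.ofFinite (Sylow p G)
          rw [Nat.card_fin, Nat.card_eq_fintype_card, Fintype.card_subtype_compl,
            Fintype.card_subtype_eq, ← Nat.card_eq_fintype_card, hS, Nat.add_sub_cancel]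
      obtain ⟨i, hi⟩ := hf.2 ⟨v • Q, hne v (L.C_le_N hvC)⟩
      have hi' : v • Q = L.x ^ (i : ℕ) • Q := (congrArg Subtype.val hi).symm
      have hpow : ∀ k : ℕ, v ^ k • Q = L.x ^ ((i : ℕ) * k) • Q := by
        intro k
        induction k with
        | zero => simp
        | succ k ih =>
          rw [pow_succ', mul_smul, ih, ← mul_smul, (hcomm.pow_right _).eq, mul_smul, hi',
            ← mul_smul, ← pow_add, mul_add, mul_one]
      have h1 := hpow (orderOf v)
      rw [pow_orderOf_eq_one, one_smul] at h1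
      have h2 := (hp.out.dvd_mul.1 (hfix Q _ hQ h1.symm)).resolve_right hvp
      rw [hi', Nat.eq_zero_of_dvd_of_lt h2 i.2, pow_zero, one_smul]
    have hvK : v ∈ (MulAction.toPermHom G (Sylow p G)).ker :=
      MonoidHom.mem_ker.2 (Equiv.ext hfixQ)
    rcases IsSimpleGroup.eq_bot_or_eq_top_of_normal _
      (MonoidHom.normal_ker (MulAction.toPermHom G (Sylow p G))) with h1 | h1
    · rw [h1] at hvK
      exact Subgroup.mem_bot.1 hvK
    · exfalso
      refine hnotnormal ⟨fun a ha g => ?_⟩
      have hg : g • L.P = L.P := by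
        have hgk : g ∈ (MulAction.toPermHom G (Sylow p G)).ker := h1 ▸ Subgroup.mem_top g
        exact DFunLike.congr_fun (MonoidHom.mem_ker.1 hgk) L.P
      exact (Subgroup.mem_normalizer_iff.1 (Sylow.smul_eq_iff_mem_normalizer.1 hg) a).1 ha
  · -- a character of degree `p - 1`
    have hc : 1 ≤ Nat.card L.O := Nat.card_pos
    obtain ⟨εY, X, Y, s, hB⟩ := exists_block L (by omega) hperf
    set E := Nat.card L.O * eN L with hEdef
    have heE : eN L ≤ E := Nat.le_mul_of_pos_left _ hc
    have hE2 : 2 * E < p := by nlinarith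
    have hq2 : 2 ≤ qN L := by
      by_contra hlt
      have h1 := eN_mul_qN' L
      have := qN_pos L
      rw [show qN L = 1 by omega, mul_one] at h1
      omega
    have hEZ : (E : ℤ) * n < p := by exact_mod_cast hE
    have hE2Z : 2 * (E : ℤ) < p := by exact_mod_cast hE2
    have hE1 : (1 : ℤ) ≤ E := by exact_mod_cast (le_trans (by omega : 1 ≤ eN L) heE)
    have hpZ : (3 : ℤ) ≤ p := by exact_mod_cast (by omega : 3 ≤ p)
    have hnp0 : (0 : ℤ) < (n : ℤ) * p + 1 := by positivity
    have hdeg : ∀ χ ∈ X, χ ≠ principalIrr G →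
        (s χ = 1 → (charDegree (χ : G → ℂ) : ℤ) = n * p + 1) ∧
        (s χ = -1 → (charDegree (χ : G → ℂ) : ℤ) = p - 1) := by
      intro χ hχ hne
      obtain ⟨hs, ⟨K, hK⟩, -⟩ := hB.sign χ (Or.inl hχ)
      have hs' : ¬ (p : ℤ) ∣ s χ := by
        intro hd
        have := Int.le_of_dvd one_pos (by rcases hs with e | e <;> simpa [e] using hd)
        omega
      obtain ⟨m, hm, hdm⟩ := deg_dvd_part L hG χ hK hs'
      have hdm' : (charDegree (χ : G → ℂ) : ℤ) * m = (E : ℤ) * ((n : ℤ) * p + 1) := by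
        rw [hdm, hEdef]; push_cast; ring
      have hd1 : (charDegree (χ : G → ℂ) : ℤ) ≠ 1 := fun e =>
        hne (deg_one_iff hperf χ (by exact_mod_cast e))
      have hd0 : (0 : ℤ) < charDegree (χ : G → ℂ) := by exact_mod_cast deg_pos χ
      constructor <;> intro e <;> rw [e] at hK
      · have hK1 : 1 ≤ K := by
          by_contra hc'
          rcases (show K = 0 ∨ K ≤ -1 by omega) with h0 | h0
          · subst h0; simp [hK] at hd1
          · nlinarith
        have := deg_plus' hEZ hE1 (by omega) hK1 hm (by rw [← hdm', hK]; ring)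
        rw [hK, this]; ring
      · have hK1 : 1 ≤ K := by nlinarith
        have := deg_minus' hEZ hE1 (by positivity) hE2Z hK1 hm (by rw [← hdm', hK]; ring)
        rw [hK, this]; ring
    obtain ⟨χ, hχX, hχne, hχs⟩ : ∃ χ ∈ X, χ ≠ principalIrr G ∧ s χ = -1 := by
      by_contra hall
      simp only [not_exists, not_and] at hall
      obtain ⟨ψ, hψ⟩ : Y.Nonempty := Finset.card_pos.1 (by rw [hB.cardY]; omega)
      have h0 := hB.rel ψ hψ 1 (by rw [orderOf_one]; exact hp.out.not_dvd_one)
      simp only [deg_eq] at h0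
      have h1 : εY * (charDegree (ψ : G → ℂ) : ℤ) =
          ∑ χ ∈ X, s χ * (charDegree (χ : G → ℂ) : ℤ) := by
        apply Int.cast_injective (α := ℂ)
        push_cast
        exact h0
      have hoX := hB.one_mem hq2
      rw [← Finset.add_sum_erase X _ hoX, hB.s_one, one_mul,
        Finset.sum_congr rfl (fun χ hχ => show s χ * (charDegree (χ : G → ℂ) : ℤ) =
            (n : ℤ) * p + 1 by
          have hne := Finset.ne_of_mem_erase hχ
          have hs := (hB.sign χ (Or.inl (Finset.mem_of_mem_erase hχ))).1.resolve_right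
            (hall χ (Finset.mem_of_mem_erase hχ) hne)
          rw [hs, one_mul, (hdeg χ (Finset.mem_of_mem_erase hχ) hne).1 hs]),
        Finset.sum_const, Finset.card_erase_of_mem hoX, hB.cardX, nsmul_eq_mul,
        Nat.cast_sub (one_le_eN L),
        show (charDegree ((principalIrr G : IrrCharacter G) : G → ℂ) : ℤ) = 1 by
          simp [charDegree, principalIrr]] at h1
      have he2Z : (2 : ℤ) ≤ eN L := by exact_mod_cast he2
      push_cast at h1
      have hx0 : (0 : ℤ) < charDegree (ψ : G → ℂ) := by exact_mod_cast deg_pos ψ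
      have hpos : (n : ℤ) * p + 2 ≤ εY * (charDegree (ψ : G → ℂ) : ℤ) := by
        rw [h1]; nlinarith
      rcases hB.εY_sign with e | e <;> subst e
      · rw [one_mul] at h1 hpos
        obtain ⟨K, hK⟩ := hB.degY ψ hψ
        have hr : ¬ (p : ℤ) ∣ 1 * (eN L : ℤ) := by
          intro hd
          rw [one_mul] at hd
          exact absurd (Int.le_of_dvd (by omega) hd) (by have : (eN L : ℤ) < p := by exact_mod_cast hep
                                                         omega)
        obtain ⟨m, hm, hdm⟩ := deg_dvd_part L hG ψ hK hr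
        have hdvd : (charDegree (ψ : G → ℂ) : ℤ) ∣ (E : ℤ) * ((n : ℤ) * p + 1) :=
          ⟨m, by rw [hdm, hEdef]; push_cast; ring⟩
        have hco : IsCoprime (charDegree (ψ : G → ℂ) : ℤ) ((n : ℤ) * p + 1) :=
          ⟨1, -((eN L : ℤ) - 1), by rw [h1]; ring⟩
        have := Int.le_of_dvd (by omega) (hco.dvd_of_dvd_mul_right hdvd)
        nlinarith
      · nlinarith
    have hd := (hdeg χ hχX hχne).2 hχs
    have h1 : (χ : G → ℂ) 1 = (p : ℂ) - 1 := by
      rw [deg_eq, ← Int.cast_natCast, hd]
      push_cast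
      rfl
    have hval : ∀ z ∈ (L.P : Subgroup G), z ≠ 1 → ∀ y ∈ L.C, ¬ p ∣ orderOf y →
        (χ : G → ℂ) (z * y) = -1 := fun z hz hz1 y hy hyp => by
      rw [(hB.sign χ (Or.inl hχX)).2.2 z hz hz1 y hy hyp, hχs, Int.cast_neg, Int.cast_one]
    have hker := O_le_ker L (irr_isCharacter χ) h1 hval hvO
    obtain ⟨d, ρ, hρ⟩ := irr_isCharacter χ
    have hd' : (Module.finrank ℂ (Fin d → ℂ) : ℂ) = (χ : G → ℂ) 1 := by
      rw [← hρ, Representation.char_one]
    have hvK : v ∈ MonoidHom.ker ρ := by
      refine MonoidHom.mem_ker.2 ?_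
      have := (char_eq_degree_iff ρ v).1 (by rw [hρ, hker, hd'])
      exact this
    rcases IsSimpleGroup.eq_bot_or_eq_top_of_normal _ (MonoidHom.normal_ker ρ) with h2 | h2
    · rw [h2] at hvK
      exact Subgroup.mem_bot.1 hvK
    · exfalso
      have hxk : L.x ∈ MonoidHom.ker ρ := h2 ▸ Subgroup.mem_top _
      have hx1 : L.x ≠ 1 := fun e => by
        have := L.hx; rw [e, orderOf_one] at this; exact hp.out.one_lt.ne this
      have h3 := hval L.x L.hxP hx1 1 (one_mem _) (by rw [orderOf_one]; exact hp.out.not_dvd_one)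
      rw [mul_one, ← hρ, Representation.character, MonoidHom.mem_ker.1 hxk,
        LinearMap.trace_one, hd', h1] at h3
      have : (p : ℂ) = 0 := by linear_combination h3
      exact hp.out.ne_zero (by exact_mod_cast this)

/-- Brauer–Reynolds. -/
theorem large [Finite G] [IsSimpleGroup G] (hcyc : ¬ IsCyclic G) (p : ℕ) (hp : p.Prime)
    (hdvd : p ∣ Nat.card G) (hbig : Nat.card G < p ^ 3) :
    (∃ (F : Type) (_ : Field F) (_ : Fintype F), Fintype.card F = p ∧ 3 < p ∧
      Nonempty (G ≃* Matrix.ProjectiveSpecialLinearGroup (Fin 2) F)) ∨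
    (∃ (m : ℕ) (F : Type) (_ : Field F) (_ : Fintype F), Fintype.card F = 2 ^ m ∧ p = 2 ^ m + 1 ∧
      3 < p ∧ Nonempty (G ≃* Matrix.ProjectiveSpecialLinearGroup (Fin 2) F)) := by
  haveI := Fact.mk hp
  haveI : Fintype G := Fintype.ofFinite G
  have hncomm : ¬ IsMulCommutative G := fun hc => hcyc (by
    haveI := hc
    letI : CommGroup G := { (inferInstance : Group G) with mul_comm := mul_comm' }
    infer_instance)
  have hperf : commutator G = ⊤ := by
    refine (IsSimpleGroup.eq_bot_or_eq_top_of_normal _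
      (by rw [commutator_def]; infer_instance)).resolve_left fun e => hncomm ?_
    refine ⟨⟨fun a b => commutatorElement_eq_one_iff_mul_comm.1 ?_⟩⟩
    rw [← Subgroup.mem_bot, ← e, commutator_def]
    exact Subgroup.commutator_mem_commutator (Subgroup.mem_top a) (Subgroup.mem_top b)
  obtain ⟨P⟩ : Nonempty (Sylow p G) := inferInstance
  have hne : (P : Subgroup G) ≠ ⊥ := P.ne_bot_of_dvd_card hdvd
  have hnn : ¬ (P : Subgroup G).Normal := fun hN => by
    have htop := (IsSimpleGroup.eq_bot_or_eq_top_of_normal _ hN).resolve_left hne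
    have hpG : IsPGroup p G := fun g => by
      obtain ⟨k, hk⟩ := P.2 ⟨g, htop ▸ Subgroup.mem_top g⟩
      exact ⟨k, by simpa using congrArg Subtype.val hk⟩
    haveI : Nontrivial G := IsSimpleGroup.toNontrivial
    haveI := hpG.center_nontrivial
    have hc := (IsSimpleGroup.eq_bot_or_eq_top_of_normal (Subgroup.center G) inferInstance
      ).resolve_left ((Subgroup.nontrivial_iff_ne_bot _).1 inferInstance)
    exact hncomm ⟨⟨fun a b => Subgroup.mem_center_iff.1 (hc ▸ Subgroup.mem_top b) a⟩⟩
  have hS1 : Nat.card (Sylow p G) ≠ 1 := fun e => hnn (by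
    haveI : Subsingleton (Sylow p G) := (Nat.card_eq_one_iff_unique.1 e).1
    exact P.normal_of_subsingleton)
  have hP : Nat.card P = p := by
    obtain ⟨a, ha⟩ := P.2.exists_card_eq
    rcases (show a = 0 ∨ a = 1 ∨ 2 ≤ a by omega) with e | e | e
    · rw [e, pow_zero, Subgroup.card_eq_one] at ha
      exact absurd ha hne
    · rw [ha, e, pow_one]
    · exfalso
      have h1 : p ^ 2 ∣ Nat.card P := ha ▸ pow_dvd_pow p e
      have h2 : Nat.card P * Nat.card (Sylow p G) ≤ Nat.card G := by
        rw [P.card_eq_index_normalizer,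
          ← (Subgroup.normalizer ((P : Subgroup G) : Set G)).card_mul_index]
        exact Nat.mul_le_mul_right _ (Nat.le_of_dvd Nat.card_pos
          (Subgroup.card_dvd_of_le Subgroup.le_normalizer))
      have h3 : p + 1 ≤ Nat.card (Sylow p G) := by
        have hpos : 1 ≤ Nat.card (Sylow p G) := Nat.card_pos
        obtain ⟨k, hk⟩ := (Nat.modEq_iff_dvd' hpos).1 (card_sylow_modEq_one p G).symm
        rcases Nat.eq_zero_or_pos k with rfl | hk0
        · omega
        · have : p * 1 ≤ p * k := Nat.mul_le_mul_left _ hk0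
          omega
      have h4 : p ^ 2 * (p + 1) ≤ Nat.card G :=
        (Nat.mul_le_mul (Nat.le_of_dvd Nat.card_pos h1) h3).trans h2
      nlinarith [pow_pos hp.pos 2]
  obtain ⟨L, hL⟩ := exists_loc P hP
  haveI : Fintype L.Dual := @Fintype.ofFinite _ L.finite_dual
  obtain ⟨n, hS, hG⟩ := card_G L
  have hn : 1 ≤ n := Nat.pos_of_ne_zero fun e => hS1 (by rw [hS, e, zero_mul, zero_add])
  have hE : Nat.card L.O * eN L * n < p := by
    rw [hG] at hbig
    by_contra hlt
    have h1 : p ^ 2 ≤ Nat.card L.O * eN L * n * p := by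
      rw [sq]; exact Nat.mul_le_mul_right _ (not_lt.1 hlt)
    nlinarith [hp.pos, Nat.zero_le (Nat.card L.O * eN L)]
  have hO : Nat.card L.O = 1 := by
    rw [Subgroup.card_eq_one, Subgroup.eq_bot_iff_forall]
    exact O_eq_bot L hperf hS hn hG hE
  have hC : L.C = (L.P : Subgroup G) := by
    refine (Subgroup.eq_of_le_of_card_ge L.P_le_C ?_).symm
    rw [L.card_C, hO, mul_one, L.hP]
  rw [hO, mul_one] at hG
  rw [hO, one_mul] at hE
  have he2 := two_le_eN L hperf
  refine of_hyp (L := L) (n := n) ⟨hperf, hC, ?_, hG, hS⟩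
  have : 2 * n ≤ eN L * n := Nat.mul_le_mul_right _ he2
  omega

end CfsgLib.BrauerReynolds
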