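import Cfsg.Agent.Lib.CyclicDefect.Principal
import Cfsg.Agent.Lib.Blk4.Modular
import Cfsg.Agent.Lib.Characters.NormalAvg
import Cfsg.Agent.Lib.Characters.Monomial

/-!
# The principal block of a group with a Sylow subgroup of prime order

The signs, degrees and values needed for the theorems of Brauer and Reynolds.
-/

set_option autoImplicit false
set_option linter.style.haveILetI false
set_option linter.unusedSectionVars false

noncomputable section

namespace CfsgLib.BrauerReynolds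

open Cfsg CfsgLib.Characters CfsgLib.CyclicDefect
open scoped ComplexConjugate Classical commutatorElement

universe u

variable {p : ℕ} [hp : Fact p.Prime] {G : Type u} [Group G] [Fintype G] (L : Loc p G)

/-- The inertial index. -/
def eN : ℕ := L.C.relIndex L.N

/-- `(p - 1) / e`. -/
def qN : ℕ := (p - 1) / eN L

theorem deg_eq (χ : IrrCharacter G) : (χ : G → ℂ) 1 = (charDegree (χ : G → ℂ) : ℂ) :=
  CharCorr.irr_one_eq_charDegree χ

theorem deg_pos (χ : IrrCharacter G) : 0 < charDegree (χ : G → ℂ) := by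
  obtain ⟨d, hd0, hd⟩ := irr_exists_degree χ.2
  rw [deg_eq, Nat.cast_inj] at hd
  omega

theorem deg_dvd_card (χ : IrrCharacter G) : charDegree (χ : G → ℂ) ∣ Nat.card G := by
  obtain ⟨d, hd, -, hdvd⟩ := irr_degree_dvd_card χ
  rw [deg_eq, Nat.cast_inj] at hd
  exact hd ▸ hdvd

theorem sum_deg_sq : ∑ χ : IrrCharacter G, (charDegree (χ : G → ℂ) : ℤ) ^ 2 = (Nat.card G : ℤ) := by
  have h := sum_sq_degrees (G := G)
  simp only [deg_eq] at h
  refine Int.cast_injective (α := ℂ) ?_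
  push_cast
  exact h

theorem deg_one_iff (hperf : commutator G = ⊤) (χ : IrrCharacter G)
    (h : charDegree (χ : G → ℂ) = 1) : χ = principalIrr G := by
  obtain ⟨n, σ, hσ, he⟩ := χ.2
  haveI := hσ
  have hn : n = 1 := by
    have := deg_eq χ
    rw [h, ← he, Representation.char_one, Module.finrank_fin_fun, Nat.cast_inj] at this
    exact this
  subst hn
  have hscal : ∀ f g : G, σ f * σ g = σ g * σ f := fun f g => by
    have key : ∀ T : Module.End ℂ (Fin 1 → ℂ), ∃ c : ℂ, T = c • 1 := fun T => by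
      refine ⟨T (fun _ => 1) 0, LinearMap.ext fun v => funext fun i => ?_⟩
      have hv : v = v 0 • (fun _ => (1 : ℂ)) := funext fun j => by simp [Subsingleton.elim j 0]
      conv_lhs => rw [hv, map_smul]
      simp [Subsingleton.elim i 0, mul_comm]
    obtain ⟨c, hc⟩ := key (σ f)
    rw [hc, smul_mul_assoc, one_mul, mul_smul_comm, mul_one]
  have hker : commutator G ≤ MonoidHom.ker σ := by
    rw [commutator_def, Subgroup.commutator_le]
    intro a _ b _
    rw [MonoidHom.mem_ker, commutatorElement_def, map_mul, map_mul, map_mul, hscal a b,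
      mul_assoc (σ b), ← map_mul σ a, mul_inv_cancel, map_one, mul_one, ← map_mul, mul_inv_cancel,
      map_one]
  refine Subtype.ext (funext fun g => ?_)
  rw [← he]
  have : σ g = 1 := MonoidHom.mem_ker.1 (hker (hperf ▸ Subgroup.mem_top g))
  show LinearMap.trace ℂ _ (σ g) = (1 : ℂ)
  rw [this, LinearMap.trace_one, Module.finrank_fin_fun, Nat.cast_one]

theorem eN_mul_qN [Fintype L.C] [Fintype L.O] [Fintype L.Dual] : eN L * qN L = p - 1 := by
  have h := L.eIdx_mul_card (principalIrr L.O)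
  rw [L.card_idx, L.eIdx_principal] at h
  exact h

theorem eN_pos [Fintype L.C] [Fintype L.O] [Fintype L.Dual] : 0 < eN L :=
  by rw [eN, ← L.eIdx_principal]; exact L.eIdx_pos _

/-- The group order. -/
theorem card_G [Fintype L.C] [Fintype L.O] [Fintype L.Dual] :
    ∃ n : ℕ, Nat.card (Sylow p G) = n * p + 1 ∧
      Nat.card G = p * Nat.card L.O * eN L * (n * p + 1) := by
  have h1 := card_sylow_modEq_one p G
  have hpos : 1 ≤ Nat.card (Sylow p G) := Nat.card_pos
  obtain ⟨n, hn⟩ := (Nat.modEq_iff_dvd' hpos).1 h1.symm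
  refine ⟨n, by rw [mul_comm]; omega, ?_⟩
  have h2 : Nat.card (Sylow p G) = n * p + 1 := by rw [mul_comm]; omega
  rw [← h2, L.P.card_eq_index_normalizer, ← L.card_C]
  have h3 : Nat.card L.C * eN L = Nat.card L.N := by
    rw [← Nat.card_congr (Subgroup.subgroupOfEquivOfLe L.C_le_N).toEquiv]
    exact Subgroup.card_mul_index _
  rw [h3]
  exact (Subgroup.card_mul_index _).symm

/-- The principal block of a perfect group: signs, degrees and values. -/
structure Block (εY : ℤ) (X Y : Finset (IrrCharacter G)) (s : IrrCharacter G → ℤ) : Prop where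
  disj : Disjoint X Y
  cardX : X.card = eN L
  cardY : Y.card = qN L
  εY_sign : εY = 1 ∨ εY = -1
  one_mem : 2 ≤ qN L → principalIrr G ∈ X
  one_mem' : principalIrr G ∈ X ∪ Y
  s_one : s (principalIrr G) = 1
  sign : ∀ χ, (χ ∈ X ∨ (qN L = 1 ∧ χ ∈ Y)) → (s χ = 1 ∨ s χ = -1) ∧
    (∃ K : ℤ, (charDegree (χ : G → ℂ) : ℤ) = s χ + p * K) ∧
    ∀ z ∈ (L.P : Subgroup G), z ≠ 1 → ∀ y ∈ L.C, ¬ p ∣ orderOf y → (χ : G → ℂ) (z * y) = (s χ : ℂ)
  degY : ∀ χ ∈ Y, ∃ K : ℤ, (charDegree (χ : G → ℂ) : ℤ) = εY * (eN L : ℤ) + p * K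
  regY : ∀ χ ∈ Y, ∀ ψ ∈ Y, ∀ g : G, ¬ p ∣ orderOf g → (χ : G → ℂ) g = (ψ : G → ℂ) g
  rel : ∀ ψ ∈ Y, ∀ g : G, ¬ p ∣ orderOf g →
    (εY : ℂ) * (ψ : G → ℂ) g = ∑ χ ∈ X, (s χ : ℂ) * (χ : G → ℂ) g
  outside : Nat.card L.O = 1 → ∀ χ, χ ∉ X → χ ∉ Y →
    (∀ z ∈ (L.P : Subgroup G), z ≠ 1 → (χ : G → ℂ) z = 0) ∧
    ∃ k : ℕ, charDegree (χ : G → ℂ) = p * k

/-- Existence of the data. -/
theorem exists_block [Fintype L.C] [Fintype L.O] [Fintype L.Dual] (hodd : p ≠ 2)
    (hperf : commutator G = ⊤) :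
    ∃ (εY : ℤ) (X Y : Finset (IrrCharacter G)) (s : IrrCharacter G → ℤ), Block L εY X Y s := by
  obtain ⟨M, hM⟩ := CfsgLib.Blk4.Modular.exists_isPModular p hp.out
  set θ := principalIrr L.O with hθ
  obtain ⟨X, Y, εY, hmem, hdisj, hXc, hYc, hεY, hX, hY, hreg, hrel⟩ :=
    L.exists_decomposition hM hodd θ
  have hq : Y.card = qN L := by rw [hYc, L.card_idx, L.eIdx_principal]; rfl
  have hone : principalIrr G ∈ X ∨ principalIrr G ∈ Y := by
    rw [← hmem, L.indB_principal hM]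
    exact fun g => by
      rw [show ((principalIrr G : IrrCharacter G) : G → ℂ) = fun _ => 1 from funext principalIrr_apply,
        sub_self]
      exact Blocks.memLocalIdeal_zero hM
  have htame : ∀ χ, (χ ∈ X ∨ (qN L = 1 ∧ χ ∈ Y)) →
      ∀ lam : L.Dual, lam ≠ 1 → L.tV χ θ lam = 0 := by
    rintro χ (h | ⟨h1, -⟩)
    · exact (hX χ h).2.1
    · intro lam hlam
      have hI : ∀ I : L.Idx θ, I = L.base θ := fun I => by
        haveI := Fintype.card_le_one_iff_subsingleton.1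
          (show Fintype.card (L.Idx θ) ≤ 1 by rw [← hYc, hq, h1])
        exact Subsingleton.elim _ _
      rw [L.tV_rep χ hlam, hI (Quotient.mk _ _)]
      exact sub_self _
  have hB : ∀ χ, (χ ∈ X ∨ (qN L = 1 ∧ χ ∈ Y)) → χ ∈ L.indB hM θ := fun χ h =>
    (hmem χ).2 (h.imp id And.right)
  have hsdeg : ∀ χ, (χ ∈ X ∨ (qN L = 1 ∧ χ ∈ Y)) →
      ∃ K : ℤ, (charDegree (χ : G → ℂ) : ℤ) = L.eV χ θ + p * K := by
    intro χ h
    obtain ⟨K, hK⟩ := L.degree hM (hB χ h)
    rw [Finset.sum_eq_zero fun I _ => htame χ h _ (L.rep_ne θ I), mul_zero, add_zero,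
      L.wOrb_principal, L.charDegree_principal, mul_one, Nat.cast_one, one_mul] at hK
    exact ⟨K, hK⟩
  have hval : ∀ χ, (χ ∈ X ∨ (qN L = 1 ∧ χ ∈ Y)) → ∀ z ∈ (L.P : Subgroup G), z ≠ 1 →
      ∀ y ∈ L.C, ¬ p ∣ orderOf y → (χ : G → ℂ) (z * y) = (L.eV χ θ : ℂ) := fun χ h z hz hz1 y hy hyr =>
    L.value_principal hM (hB χ h) (htame χ h) hz hz1 hy hyr
  have hone2 : 2 ≤ qN L → principalIrr G ∈ X := by
    intro h2
    refine hone.resolve_right fun hY1 => ?_
    obtain ⟨ψ, hψ, hne⟩ := Finset.exists_mem_ne (by omega : 1 < Y.card) (principalIrr G)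
    refine hne (deg_one_iff hperf ψ ?_)
    have h := hreg ψ hψ _ hY1 1 (by rw [orderOf_one]; exact hp.out.not_dvd_one)
    rw [deg_eq, principalIrr_apply, Nat.cast_eq_one] at h
    exact h
  refine ⟨εY, X, Y, fun χ => L.eV χ θ, hdisj, by rw [hXc, L.eIdx_principal]; rfl, hq, hεY, hone2,
    Finset.mem_union.2 hone, ?_, fun χ h => ⟨L.eV_sign hM hodd (hB χ h) (htame χ h), hsdeg χ h,
      hval χ h⟩, fun χ hχ => ?_, hreg, fun ψ hψ g hg => hrel ψ hψ g hg, fun hO χ hχX hχY => ?_⟩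
  · have hmem1 : principalIrr G ∈ X ∨ (qN L = 1 ∧ principalIrr G ∈ Y) := by
      rcases hone with h | h
      · exact Or.inl h
      · rcases (show qN L ≤ 1 ∨ 2 ≤ qN L by omega) with h1 | h1
        · have : 0 < Y.card := Finset.card_pos.2 ⟨_, h⟩
          exact Or.inr ⟨by omega, h⟩
        · exact Or.inl (hone2 h1)
    have h := hval _ hmem1 L.x L.hxP (fun e => by
      have := L.hx
      rw [e, orderOf_one] at this
      exact hp.out.one_lt.ne this) 1 (one_mem _) (by rw [orderOf_one]; exact hp.out.not_dvd_one)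
    rw [principalIrr_apply] at h
    exact_mod_cast h.symm
  · obtain ⟨K, hK⟩ := hY χ hχ
    rw [L.wOrb_principal, L.charDegree_principal, mul_one, mul_one, L.eIdx_principal] at hK
    exact ⟨K, hK⟩
  · have hnB : χ ∉ L.indB hM θ := fun h => ((hmem χ).1 h).elim hχX hχY
    haveI hsub : Subsingleton L.O := (Nat.card_eq_one_iff_unique.1 hO).1
    have huniq : ∀ φ : IrrCharacter L.O, φ = θ := by
      intro φ
      refine Subtype.ext (funext fun y => ?_)
      rw [Subsingleton.elim y 1, principalIrr_apply, deg_eq φ]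
      have h := deg_dvd_card φ
      rw [hO, Nat.dvd_one] at h
      rw [h, Nat.cast_one]
    haveI : Unique (IrrCharacter L.O) := ⟨⟨θ⟩, huniq⟩
    have hconst : ∀ lam : L.Dual, L.mult χ lam θ = L.mult χ (L.rep θ (L.base θ)) θ := fun lam =>
      sub_eq_zero.1 (L.vanish_of_notMem hM hnB lam).2
    have hcoef : ∀ (lam : L.Dual), L.coef (χ : G → ℂ) lam θ = (L.mult χ 1 θ : ℂ) := fun lam => by
      rw [L.coef_eq, hconst lam, hconst 1]
    have hv : ∀ i : ℕ, (χ : G → ℂ) (L.x ^ i) =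
        (L.mult χ 1 θ : ℂ) * ∑ lam : L.Dual, (lam ⟨L.x, L.hxP⟩ : ℂ) ^ i := by
      intro i
      have h := L.value (irr_isClassFunction χ) i (1 : L.O)
      rw [OneMemClass.coe_one, mul_one, Fintype.sum_unique,
        show (default : IrrCharacter L.O) = θ from huniq _] at h
      simp only [hcoef] at h
      simp only [hθ, principalIrr_apply, mul_one] at h
      rw [h, Finset.mul_sum]
    refine ⟨fun z hz hz1 => ?_, ?_⟩
    · rw [← L.zpowers] at hz
      obtain ⟨j, hj⟩ := mem_powers_iff_mem_zpowers.2 hz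
      have hj : L.x ^ j = z := hj
      have hjx : L.x ^ (j % p) = z := by
        rw [← hj]
        conv_rhs => rw [← Nat.div_add_mod j p, pow_add, pow_mul, L.x_pow_p, one_pow, one_mul]
      have hj0 : 0 < j % p := Nat.pos_of_ne_zero fun h => hz1 (by rw [← hjx, h, pow_zero])
      rw [← hjx, hv, L.sum_dual_pow_eq_zero hj0 (Nat.mod_lt j hp.out.pos), mul_zero]
    · have h := hv 0
      simp only [pow_zero, Finset.sum_const, Finset.card_univ, nsmul_one,
        ← Nat.card_eq_fintype_card, L.card_dual] at h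
      rw [deg_eq] at h
      have h' : (charDegree (χ : G → ℂ) : ℤ) = L.mult χ 1 θ * p := by exact_mod_cast h
      have : (p : ℤ) ∣ (charDegree (χ : G → ℂ) : ℤ) := ⟨L.mult χ 1 θ, by rw [h', mul_comm]⟩
      exact Int.natCast_dvd_natCast.1 this

/-- Characters of degree prime to `p` divide the `p'`-part. -/
theorem deg_dvd_part [Fintype L.C] [Fintype L.O] [Fintype L.Dual] {n : ℕ}
    (hG : Nat.card G = p * Nat.card L.O * eN L * (n * p + 1)) (χ : IrrCharacter G) {r K : ℤ}
    (h : (charDegree (χ : G → ℂ) : ℤ) = r + p * K) (hr : ¬ (p : ℤ) ∣ r) :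
    ∃ m : ℤ, 1 ≤ m ∧
      (charDegree (χ : G → ℂ) : ℤ) * m = (Nat.card L.O : ℤ) * eN L * ((n : ℤ) * p + 1) := by
  set d := charDegree (χ : G → ℂ) with hd
  have hco : d.Coprime p := by
    rw [Nat.coprime_comm, hp.out.coprime_iff_not_dvd]
    intro hdvd
    refine hr ?_
    have h1 : (p : ℤ) ∣ (d : ℤ) := Int.natCast_dvd_natCast.2 hdvd
    rw [h] at h1
    exact (dvd_add_left (dvd_mul_right _ _)).1 h1
  have hdvd : d ∣ Nat.card L.O * eN L * (n * p + 1) := by
    refine hco.dvd_of_dvd_mul_left ?_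
    rw [← mul_assoc, ← mul_assoc, ← hG]
    exact deg_dvd_card χ
  obtain ⟨m, hm⟩ := hdvd
  have hpos : 0 < Nat.card L.O * eN L * (n * p + 1) :=
    Nat.mul_pos (Nat.mul_pos Nat.card_pos (eN_pos L)) (Nat.succ_pos _)
  refine ⟨m, ?_, by exact_mod_cast hm.symm⟩
  have : 0 < m := Nat.pos_of_ne_zero fun e => by rw [e, mul_zero] at hm; omega
  exact_mod_cast this

/-- The dimension of the fixed points of the Sylow subgroup. -/
def fixDim (χ : G → ℂ) : ℂ := (p : ℂ)⁻¹ * ∑ z : (L.P : Subgroup G), χ z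

theorem P_normal_in_N : ((L.P : Subgroup G).subgroupOf L.N).Normal := Subgroup.normal_in_normalizer

theorem avg_eq (χ : G → ℂ) (hχ : IsClassFunction G χ) (hC : L.C = (L.P : Subgroup G)) {g : G}
    (hg : g ∈ L.N) (hgC : g ∉ L.C) (z : G) (hz : z ∈ (L.P : Subgroup G)) : χ (z * g) = χ g := by
  have hmem : ∀ k : (L.P : Subgroup G), (k : G) * g * (k : G)⁻¹ * g⁻¹ ∈ (L.P : Subgroup G) := by
    intro k
    have := (L.P : Subgroup G).mul_mem k.2
      ((Subgroup.mem_normalizer_iff.1 hg _).1 ((L.P : Subgroup G).inv_mem k.2))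
    simpa [mul_assoc] using this
  let φ : ↥(L.P : Subgroup G) → ↥(L.P : Subgroup G) := fun k => ⟨_, hmem k⟩
  have hφ : Function.Injective φ := by
    intro k k' hkk
    have e : (k : G) * g * (k : G)⁻¹ = (k' : G) * g * (k' : G)⁻¹ :=
      mul_right_cancel (b := g⁻¹) (congrArg Subtype.val hkk)
    by_contra hne
    have hu : (k' : G)⁻¹ * k ∈ (L.P : Subgroup G) :=
      (L.P : Subgroup G).mul_mem ((L.P : Subgroup G).inv_mem k'.2) k.2
    have hu1 : (k' : G)⁻¹ * k ≠ 1 := fun e1 => hne (Subtype.ext (inv_mul_eq_one.1 e1).symm)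
    have hcm : (k' : G)⁻¹ * k * g = g * ((k' : G)⁻¹ * k) := by
      calc (k' : G)⁻¹ * k * g = (k' : G)⁻¹ * ((k : G) * g * (k : G)⁻¹) * k := by group
        _ = g * ((k' : G)⁻¹ * k) := by rw [e]; group
    refine hgC (L.mem_C_iff.2 ?_)
    -- a nontrivial element of `P` generates it
    have hgen : Subgroup.zpowers ((k' : G)⁻¹ * k) = (L.P : Subgroup G) := by
      refine Subgroup.eq_of_le_of_card_ge (Subgroup.zpowers_le.2 hu) (le_of_eq ?_)
      rw [L.hP, Nat.card_zpowers]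
      have h1 : orderOf ((k' : G)⁻¹ * k) ∣ p := by
        have := Subgroup.orderOf_dvd_natCard _ hu
        rwa [L.hP] at this
      exact (((Nat.dvd_prime hp.out).1 h1).resolve_left (fun h0 => hu1 (orderOf_eq_one_iff.1 h0))).symm
    have hx : L.x ∈ Subgroup.zpowers ((k' : G)⁻¹ * k) := by rw [hgen]; exact L.hxP
    obtain ⟨j, hj⟩ := Subgroup.mem_zpowers_iff.1 hx
    rw [← hj]
    exact ((show Commute g ((k' : G)⁻¹ * k) from hcm.symm).zpow_right j).eq
  obtain ⟨k, hk⟩ := (Finite.injective_iff_surjective.1 hφ) ⟨z, hz⟩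
  have hk' : (k : G) * g * (k : G)⁻¹ * g⁻¹ = z := congrArg Subtype.val hk
  rw [← hk', inv_mul_cancel_right, hχ g k]

/-- The action of a complement of `P` in its normaliser on the fixed points of `P`. -/
theorem isCharacter_fix (hC : L.C = (L.P : Subgroup G)) {Y₀ : Subgroup G} (hY : Y₀ ≤ L.N)
    (hYC : ∀ g ∈ Y₀, g ∈ L.C → g = 1) {χ : G → ℂ} (hχ : IsCharacter G χ) :
    IsCharacter Y₀ (fun g : Y₀ => if g = 1 then fixDim L χ else χ g) := by
  haveI := P_normal_in_N L
  have hN : IsCharacter L.N (fun g : L.N => χ g) := by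
    obtain ⟨d, ρ, rfl⟩ := hχ
    exact ⟨d, ρ.comp L.N.subtype, rfl⟩
  have havg := CfsgLib.NormalAvg.isCharacter_avgN ((L.P : Subgroup G).subgroupOf L.N) hN
  have hcls := isClassFunction_of_isCharacter hχ
  obtain ⟨d, ρ, hρ⟩ := havg
  refine ⟨d, ρ.comp (Subgroup.inclusion hY), ?_⟩
  funext g
  show ρ.character (Subgroup.inclusion hY g) = _
  rw [hρ]
  simp only [CfsgLib.NormalAvg.avgN,
    Nat.card_congr (Subgroup.subgroupOfEquivOfLe (Subgroup.le_normalizer (H := (L.P : Subgroup G)))).toEquiv,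
    L.hP]
  have hsum : ∀ g : G, (∑ k : (L.P : Subgroup G).subgroupOf L.N, χ (((k : L.N) : G) * g)) =
      ∑ z : (L.P : Subgroup G), χ ((z : G) * g) := fun g =>
    Fintype.sum_equiv
      (Subgroup.subgroupOfEquivOfLe (Subgroup.le_normalizer (H := (L.P : Subgroup G)))).toEquiv
      _ _ fun k => rfl
  simp only [Subgroup.coe_mul, Subgroup.coe_inclusion, hsum]
  by_cases h : g = 1
  · rw [if_pos h, h, fixDim]
    simp
  · rw [if_neg h, Finset.sum_congr rfl fun (z : ↥(L.P : Subgroup G)) _ => avg_eq L χ hcls hC (hY g.2)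
      (fun hgC => h (Subtype.ext (hYC g g.2 hgC))) (z : G) z.2, Finset.sum_const, Finset.card_univ,
      nsmul_eq_mul, ← Nat.card_eq_fintype_card, L.hP,
      inv_mul_cancel_left₀ (Nat.cast_ne_zero.2 hp.out.ne_zero)]

end CfsgLib.BrauerReynolds
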