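import Cfsg.Agent.Lib.BrauerReynolds.Cyclic
import Cfsg.Agent.Lib.Blocks.DefectZeroVanish

/-!
# The involution of the complement

The second case: the exceptional characters have degree `p - e`.
-/

set_option autoImplicit false
set_option linter.style.haveILetI false
set_option linter.unusedSectionVars false

noncomputable section

namespace CfsgLib.BrauerReynolds

open Cfsg CfsgLib.Characters CfsgLib.CyclicDefect
open scoped ComplexConjugate Classical

universe u

/-- A character is integral at an element with square one. -/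
theorem int_of_sq_one {H : Type u} [Group H] [Finite H] {F : H → ℂ} (hF : IsCharacter H F) {d : ℕ}
    (hd : F 1 = d) {t : H} (ht : t * t = 1) : ∃ z : ℤ, F t = z ∧ |z| ≤ d := by
  obtain ⟨m, ρ, rfl⟩ := hF
  rw [Representation.char_one, Nat.cast_inj] at hd
  obtain ⟨ω, hω, -, hsum⟩ := exists_eigenvalues ρ t
  have hsign : ∀ i, ∃ z : ℤ, ω i = z ∧ |z| ≤ 1 := by
    intro i
    have h2 : orderOf t ∣ 2 := orderOf_dvd_of_pow_eq_one (by rw [sq, ht])
    obtain ⟨k, hk⟩ := h2
    have h3 : ω i * ω i = 1 := by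
      rw [← sq, hk, pow_mul, hω, one_pow]
    rcases mul_self_eq_one_iff.1 h3 with h4 | h4
    · exact ⟨1, by rw [h4, Int.cast_one], by simp⟩
    · exact ⟨-1, by rw [h4]; simp, by simp⟩
  choose z hz hz1 using hsign
  refine ⟨∑ i, z i, by rw [hsum]; push_cast; exact Finset.sum_congr rfl fun i _ => hz i, ?_⟩
  refine (Finset.abs_sum_le_sum_abs _ _).trans ((Finset.sum_le_sum fun i _ => hz1 i).trans ?_)
  simp [hd]

/-- The sum of a character over the powers of an element. -/
theorem sum_pow_nat {G : Type u} [Group G] [Finite G] {F : G → ℂ} (hF : IsCharacter G F) (v : G) :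
    ∃ m : ℕ, ∑ j ∈ Finset.range (orderOf v), F (v ^ j) = (orderOf v : ℂ) * m := by
  haveI : Fintype (Subgroup.zpowers v) := Fintype.ofFinite _
  obtain ⟨d, ρ, rfl⟩ := hF
  obtain ⟨m, hm⟩ := sum_nat (H := Subgroup.zpowers v)
    (F := fun g : Subgroup.zpowers v => ρ.character (g : G))
    ⟨d, ρ.comp (Subgroup.zpowers v).subtype, rfl⟩
  refine ⟨m, ?_⟩
  rw [Nat.card_zpowers] at hm
  rw [← hm, ← Fin.sum_univ_eq_sum_range]
  exact Fintype.sum_equiv (finEquivZPowers (isOfFinOrder_of_finite v)) _ _ fun j => rfl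

variable {p : ℕ} [hp : Fact p.Prime] {G : Type u} [Group G] [Fintype G]
variable {L : Loc p G} {n : ℕ} {A B Y R : Finset (IrrCharacter G)}
variable (h : Hyp L n) (D : Deg L n 1 A B Y R) {y : G} (hy : y ∈ L.N) (hye : orderOf y = eN L)

include D in
theorem q_eq : qN L = n + 1 :=
  (D.caseu.resolve_left one_ne_zero).symm.trans rfl |> fun e => by omega

include D in
theorem e_eq' : eN L = A.card * qN L + 2 := by
  have := D.countA
  rw [q_eq D]
  omega

include h D in
theorem even_eN : Even (eN L) ∧ Even (qN L) := by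
  have he := e_eq' D
  have hq := eN_mul_qN' L
  have hodd : Even (eN L * qN L) := by
    rw [hq, Nat.even_iff]
    rcases hp.out.eq_two_or_odd with h2 | h2
    · have := h.three_le; omega
    · omega
  have hB : B.Nonempty := Finset.card_pos.1 (by rw [D.countB]; omega)
  obtain ⟨χ, hχ⟩ := hB
  have hq2 : Even (eN L) → Even (qN L) :=
    h.even_q_of_minus (irr_isCharacter χ) (D.degB χ hχ) (D.valB χ hχ)
  rcases Nat.even_mul.1 hodd with h1 | h1
  · exact ⟨h1, hq2 h1⟩
  · exact ⟨by rw [he]; exact (h1.mul_left _).add even_two, h1⟩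

include h D hye in
theorem exists_involution :
    ∃ t ∈ Subgroup.zpowers y, orderOf t = 2 ∧
      ∀ k ∈ Subgroup.zpowers y, orderOf k = 2 → k = t := by
  obtain ⟨r, hr⟩ := (even_eN h D).1
  have he := one_le_eN L
  refine ⟨y ^ r, Subgroup.npow_mem_zpowers y r, ?_, fun k hk hk2 => ?_⟩
  · rw [orderOf_pow' y (by omega : r ≠ 0), hye, hr,
      Nat.gcd_eq_right (Dvd.intro 2 (by omega)), ← two_mul, Nat.mul_div_cancel _ (by omega)]
  · obtain ⟨j, rfl⟩ := mem_powers_iff_mem_zpowers.2 hk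
    have hk' : (y ^ j) ^ 2 = 1 := hk2 ▸ pow_orderOf_eq_one _
    rw [← pow_mul, ← orderOf_dvd_iff_pow_eq_one, hye, hr] at hk'
    have hdvd : r ∣ j := Nat.dvd_of_mul_dvd_mul_right two_pos (by rwa [mul_two])
    obtain ⟨i, rfl⟩ := hdvd
    rcases Nat.even_or_odd i with ⟨s, rfl⟩ | ⟨s, rfl⟩
    · exfalso
      have : y ^ (r * (s + s)) = 1 := by
        rw [show r * (s + s) = (r + r) * s by ring, ← hr, ← hye, pow_mul, pow_orderOf_eq_one,
          one_pow]
      have hk3 : orderOf (y ^ (r * (s + s))) = 2 := hk2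
      rw [this, orderOf_one] at hk3
      omega
    · show y ^ (r * (2 * s + 1)) = y ^ r
      rw [show r * (2 * s + 1) = (r + r) * s + r by ring, ← hr, pow_add, ← hye, pow_mul,
        pow_orderOf_eq_one, one_pow, one_mul]

variable {t : G} (ht : t ∈ Subgroup.zpowers y) (ht2 : orderOf t = 2)
  (htu : ∀ k ∈ Subgroup.zpowers y, orderOf k = 2 → k = t)

include ht2 in
theorem t_ne_one : t ≠ 1 := fun e => by rw [e, orderOf_one] at ht2; omega

include ht2 in
theorem t_sq : t * t = 1 := by rw [← sq, ← ht2, pow_orderOf_eq_one]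

include h D hy hye ht ht2 htu in
theorem card_centralizer_t :
    Nat.card (Subgroup.centralizer ({t} : Set G)) = eN L * qN L := by
  have h1 := card_conj_mul h D hy hye ht (t_ne_one ht2)
  haveI : Unique {k : Subgroup.zpowers y // IsConj t (k : G)} :=
    ⟨⟨⟨⟨t, ht⟩, IsConj.refl t⟩⟩, fun ⟨k, hk⟩ => Subtype.ext (Subtype.ext (htu k k.2 (by
      obtain ⟨a, ha⟩ := isConj_iff.1 hk
      rw [← ha, ← ht2]
      exact (MulAut.conj a).orderOf_eq t)))⟩
  rw [Nat.card_unique, one_mul] at h1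
  rw [h1, q_eq D, mul_comm]

include h D hy hye ht ht2 htu in
theorem val_t (hcase : A.card = 0 ∨ 3 ≤ qN L) :
    (∀ ψ ∈ Y, (ψ : G → ℂ) t = -1) ∧
      ∀ χ ∈ A, (χ : G → ℂ) t = (qN L : ℂ) ∨ (χ : G → ℂ) t = -(qN L : ℂ) := by
  obtain ⟨ψ, hψ⟩ : Y.Nonempty := Finset.card_pos.1 (by
    rw [D.cardY]; have := D.two_le_q; omega)
  have hint : ∀ (χ : IrrCharacter G) (d : ℕ), fixDim L (χ : G → ℂ) = d →
      ∃ z : ℤ, (χ : G → ℂ) t = z ∧ |z| ≤ d := by
    intro χ d hd
    obtain ⟨z, hz, hzd⟩ := int_of_sq_one (h.isCharacter_fix hy hye (irr_isCharacter χ))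
      (d := d) (by rw [if_pos rfl, hd]) (t := (⟨t, ht⟩ : Subgroup.zpowers y))
      (Subtype.ext (t_sq ht2))
    refine ⟨z, ?_, hzd⟩
    rwa [if_neg fun e => t_ne_one ht2 (congrArg Subtype.val e)] at hz
  have hqn := q_eq D
  obtain ⟨zψ, hzψ, hzψ1⟩ := hint ψ 1 (fixY h D hy hye hψ)
  have hA : ∀ χ : IrrCharacter G, ∃ z : ℤ, χ ∈ A → (χ : G → ℂ) t = z ∧ |z| ≤ qN L := by
    intro χ
    by_cases hχ : χ ∈ A
    · obtain ⟨z, hz, hzd⟩ := hint χ (n + 1) (fixA h D hy hye hχ)
      exact ⟨z, fun _ => ⟨hz, by rw [hqn]; exact hzd⟩⟩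
    · exact ⟨0, fun e => absurd e hχ⟩
  choose z hz using hA
  have hrel := rel_zero h D hy hye hψ ht (t_ne_one ht2)
  rw [Finset.sum_congr rfl fun χ hχ => (hz χ hχ).1, hzψ] at hrel
  have hrel' : 1 + ∑ χ ∈ A, z χ + zψ = 0 := by exact_mod_cast hrel
  have hψsq : zψ * zψ = 1 := by
    rcases (show zψ = -1 ∨ zψ = 0 ∨ zψ = 1 by rw [abs_le] at hzψ1; omega) with e | e | e
    · rw [e]; norm_num
    · exfalso
      obtain ⟨d, ρ, hρ⟩ := h.isCharacter_fix hy hye (irr_isCharacter ψ)
      obtain ⟨ω, -, hω1, hω⟩ := exists_eigenvalues ρ (⟨t, ht⟩ : Subgroup.zpowers y)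
      have hd : Module.finrank ℂ (Fin d → ℂ) = 1 := by
        have := congrFun hρ 1
        rw [Representation.char_one, if_pos rfl, fixY h D hy hye hψ, Nat.cast_inj] at this
        exact this
      have := congrFun hρ ⟨t, ht⟩
      rw [if_neg fun e => t_ne_one ht2 (congrArg Subtype.val e), hω, hzψ, e, Int.cast_zero] at this
      haveI hss : Subsingleton (Fin (Module.finrank ℂ (Fin d → ℂ))) := by rw [hd]; infer_instance
      rw [Fintype.sum_subsingleton _ (⟨0, by omega⟩ : Fin (Module.finrank ℂ (Fin d → ℂ)))] at this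
      have h1 := hω1 ⟨0, by omega⟩
      rw [this, norm_zero] at h1
      exact zero_ne_one h1
    · rw [e]; norm_num
  have hC := card_centralizer h D hy hye hψ ht (t_ne_one ht2)
  rw [card_centralizer_t h D hy hye ht ht2 htu, hzψ, map_intCast,
    Finset.sum_congr rfl fun χ hχ => by rw [(hz χ hχ).1, map_intCast]] at hC
  have hC' : (eN L : ℤ) * qN L = 1 + n + ∑ χ ∈ A, z χ * z χ + qN L * (zψ * zψ) := by
    exact_mod_cast hC
  rw [hψsq, mul_one] at hC'
  have hqnZ : (qN L : ℤ) = n + 1 := by exact_mod_cast hqn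
  have heZ : (eN L : ℤ) = A.card * qN L + 2 := by exact_mod_cast e_eq' D
  have hle : ∀ χ ∈ A, z χ * z χ ≤ (qN L : ℤ) * qN L := fun χ hχ => by
    have := (hz χ hχ).2
    rw [abs_le] at this
    nlinarith
  have heq := (Finset.sum_eq_sum_iff_of_le hle).1 (by
    rw [Finset.sum_const, nsmul_eq_mul]
    rw [heZ] at hC'
    linear_combination -hC' + hqnZ)
  have hsigns : ∀ χ ∈ A, z χ = qN L ∨ z χ = -(qN L : ℤ) := fun χ hχ =>
    mul_self_eq_mul_self_iff.1 (heq χ hχ)
  have hzm : zψ = -1 := by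
    rcases hcase with h0 | h0
    · rw [Finset.card_eq_zero.1 h0, Finset.sum_empty] at hrel'
      omega
    · rcases (mul_self_eq_one_iff.1 hψsq) with e | e
      · exfalso
        subst e
        have hdvd : (qN L : ℤ) ∣ ∑ χ ∈ A, z χ := Finset.dvd_sum fun χ hχ => by
          rcases hsigns χ hχ with e | e <;> rw [e]
          exact (dvd_neg.2 dvd_rfl)
        rw [show ∑ χ ∈ A, z χ = -2 by omega, dvd_neg] at hdvd
        have := Int.le_of_dvd two_pos hdvd
        omega
      · exact e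
  refine ⟨fun φ hφ => ?_, fun χ hχ => ?_⟩
  · rw [D.regY φ hφ ψ hψ t (regular_of_mem hye ht), hzψ, hzm]
    simp
  · rw [(hz χ hχ).1]
    rcases hsigns χ hχ with e | e <;> simp [e]

include h D in
theorem card_G_eq : ∀ l : ℕ, l.Prime → l ∣ eN L * qN L →
    ∃ M : ℕ, Nat.card G = (eN L * qN L) * M ∧ ¬ l ∣ M := by
  intro l hl hld
  have hqn := q_eq D
  have he := e_eq' D
  have hpq := eN_mul_qN' L
  have hlt := eN_lt L
  obtain ⟨k, hk⟩ : ∃ k, p = eN L + k := ⟨p - eN L, by omega⟩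
  refine ⟨p * k, ?_, ?_⟩
  · rw [h.hG]
    have hnp : n * p + 1 = qN L * k := by
      have h1 : qN L * p = qN L * (eN L + k) := by rw [← hk]
      have h2 : qN L * p = n * p + p := by rw [hqn]; ring
      rw [mul_add, mul_comm (qN L) (eN L), hpq] at h1
      omega
    rw [hnp]
    ring
  · intro hd
    have hlp : l ≠ p := by
      rintro rfl
      have := Nat.le_of_dvd (by rw [hpq]; have := h.three_le; omega) hld
      omega
    have hlk : l ∣ k := (hl.dvd_mul.1 hd).resolve_left fun e =>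
      hlp ((Nat.prime_dvd_prime_iff_eq hl hp.out).1 e)
    have hpZ : (eN L : ℤ) + k = eN L * qN L + 1 := by
      exact_mod_cast (show eN L + k = eN L * qN L + 1 by omega)
    have h1 : (l : ℤ) ∣ (eN L : ℤ) - 1 := by
      have : (eN L : ℤ) - 1 = eN L * qN L - k := by linarith
      rw [this]
      exact dvd_sub (by exact_mod_cast hld) (by exact_mod_cast hlk)
    have h2 : (l : ℤ) ∣ 1 := by
      rcases hl.dvd_mul.1 hld with h3 | h3
      · simpa using dvd_sub (Int.natCast_dvd_natCast.2 h3) h1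
      · rw [he] at h1
        push_cast at h1
        have h4 : (l : ℤ) ∣ (A.card : ℤ) * qN L :=
          dvd_mul_of_dvd_right (Int.natCast_dvd_natCast.2 h3) _
        have h5 := dvd_sub h1 h4
        rwa [show (A.card : ℤ) * qN L + 2 - 1 - (A.card : ℤ) * qN L = 1 by ring] at h5
    have := Int.le_of_dvd one_pos h2
    have := hl.two_le
    omega

include h D hy hye ht ht2 htu in
theorem orderOf_dvd_of_centralizes {g : G} (hg : g ∈ Subgroup.centralizer ({t} : Set G)) :
    orderOf g ∣ eN L * qN L := by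
  rw [← card_centralizer_t h D hy hye ht ht2 htu]
  exact Subgroup.orderOf_dvd_natCard _ hg

include h D hy hye ht ht2 htu in
theorem regular_of_centralizes {g : G} (hg : g ∈ Subgroup.centralizer ({t} : Set G)) :
    ¬ p ∣ orderOf g := by
  intro hd
  have h1 := hd.trans (orderOf_dvd_of_centralizes h D hy hye ht ht2 htu hg)
  rw [eN_mul_qN' L] at h1
  have := Nat.le_of_dvd (by have := h.three_le; omega) h1
  have := hp.out.one_le
  omega

include h D hy hye ht ht2 htu in
theorem vanish_B {g : G} (hg : g ∈ Subgroup.centralizer ({t} : Set G)) (hg1 : g ≠ 1)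
    {χ : IrrCharacter G} (hχ : χ ∈ B) : (χ : G → ℂ) g = 0 := by
  set l := (orderOf g).minFac with hl
  have hlp : l.Prime := Nat.minFac_prime fun e => hg1 (orderOf_eq_one_iff.1 e)
  haveI := Fact.mk hlp
  have hld : l ∣ eN L * qN L :=
    (Nat.minFac_dvd _).trans (orderOf_dvd_of_centralizes h D hy hye ht ht2 htu hg)
  obtain ⟨M, hM, hlM⟩ := card_G_eq h D l hlp hld
  refine DefectZeroVanish.vanish_of_defect_zero χ ?_ (Nat.minFac_dvd _)
  have hd : charDegree (χ : G → ℂ) = eN L * qN L := by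
    have := D.degB χ hχ
    rw [deg_eq, ← Nat.cast_one, ← Nat.cast_sub hp.out.one_le, Nat.cast_inj] at this
    rw [this, eN_mul_qN' L]
  have hpos : eN L * qN L ≠ 0 := (Nat.mul_pos (one_le_eN L) (qN_pos L)).ne'
  have hM0 : M ≠ 0 := fun e => hlM (e ▸ dvd_zero l)
  rw [hd, hM, Nat.factorization_mul hpos hM0, Finsupp.add_apply,
    Nat.factorization_eq_zero_of_not_dvd hlM, add_zero]
  exact Nat.ordProj_dvd _ _

include h D hy hye ht ht2 htu in
/-- The characters positive at `t`. -/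
theorem phi_plus (hcase : A.card = 0 ∨ 3 ≤ qN L) {g : G}
    (hg : g ∈ Subgroup.centralizer ({t} : Set G)) (hg1 : g ≠ 1) (hgt : ¬ IsConj g t) :
    ∑ χ ∈ A.filter (fun χ : IrrCharacter G => (χ : G → ℂ) t = (qN L : ℂ)), (χ : G → ℂ) g = -1 := by
  obtain ⟨hψt, hAt⟩ := val_t h D hy hye ht ht2 htu hcase
  obtain ⟨ψ, hψ⟩ : Y.Nonempty := Finset.card_pos.1 (by
    rw [D.cardY]; have := D.two_le_q; omega)
  have hreg := regular_of_centralizes h D hy hye ht ht2 htu hg
  have hBg : ∀ χ ∈ B, (χ : G → ℂ) g = 0 := fun χ hχ =>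
    vanish_B h D hy hye ht ht2 htu hg hg1 hχ
  have hq : (qN L : ℂ) = n + 1 := by exact_mod_cast q_eq D
  have hq0 : (qN L : ℂ) ≠ 0 := Nat.cast_ne_zero.2 (qN_pos L).ne'
  have hrel : 1 + ∑ χ ∈ A, (χ : G → ℂ) g + (ψ : G → ℂ) g = 0 := by
    have h1 := D.rel ψ hψ g hreg
    rw [Finset.sum_eq_zero hBg, sub_zero, sgn, if_neg one_ne_zero] at h1
    push_cast at h1
    linear_combination -h1
  have hdx : (qN L : ℂ) * (ψ : G → ℂ) 1 = (n : ℂ) * p + 1 := by
    have h1 := deg_poly D hψ
    rw [Nat.cast_one, mul_one, sub_eq_zero] at h1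
    exact h1
  have hT : ∑ χ ∈ R, (kk p χ : ℂ) * (χ : G → ℂ) g = n := by
    have h0 := sum_degree_mul_irr g
    rw [if_neg hg1, D.split,
      Finset.sum_congr (s₁ := A) rfl fun (φ : IrrCharacter G) hφ =>
        congrArg (· * (φ : G → ℂ) g) (D.degA φ hφ),
      Finset.sum_eq_zero (s := B) fun (φ : IrrCharacter G) hφ =>
        show (φ : G → ℂ) 1 * (φ : G → ℂ) g = 0 by rw [hBg φ hφ, mul_zero],
      Finset.sum_congr (s₁ := Y) rfl fun (φ : IrrCharacter G) hφ =>
        show (φ : G → ℂ) 1 * (φ : G → ℂ) g = (ψ : G → ℂ) 1 * (ψ : G → ℂ) g by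
          rw [D.regY φ hφ ψ hψ g hreg,
            D.regY φ hφ ψ hψ 1 (by rw [orderOf_one]; exact hp.out.not_dvd_one)],
      Finset.sum_congr (s₁ := R) rfl fun (φ : IrrCharacter G) hφ =>
        show (φ : G → ℂ) 1 * (φ : G → ℂ) g = (p : ℂ) * ((kk p φ : ℂ) * (φ : G → ℂ) g) by
          rw [(deg_R D hφ).2, mul_assoc],
      Finset.sum_const, D.cardY, nsmul_eq_mul, principalIrr_apply, principalIrr_apply,
      ← Finset.mul_sum, ← Finset.mul_sum] at h0
    refine mul_left_cancel₀ (Nat.cast_ne_zero.2 hp.out.ne_zero : (p : ℂ) ≠ 0) ?_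
    linear_combination h0 - ((n : ℂ) * p + 1) * hrel - (ψ : G → ℂ) g * hdx
  have h0 := column_orth g t
  rw [if_neg hgt, D.split,
    Finset.sum_eq_zero (s := B) fun (χ : IrrCharacter G) hχ =>
      show (χ : G → ℂ) g * conj ((χ : G → ℂ) t) = 0 by rw [hBg χ hχ, zero_mul],
    Finset.sum_congr (s₁ := Y) rfl fun (χ : IrrCharacter G) hχ =>
      show (χ : G → ℂ) g * conj ((χ : G → ℂ) t) = -(ψ : G → ℂ) g by
        rw [hψt χ hχ, D.regY χ hχ ψ hψ g hreg, map_neg, map_one, mul_neg_one],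
    Finset.sum_congr (s₁ := R) rfl fun (χ : IrrCharacter G) hχ =>
      show (χ : G → ℂ) g * conj ((χ : G → ℂ) t) = (kk p χ : ℂ) * (χ : G → ℂ) g by
        rw [valR h D hy hye hχ ht (t_ne_one ht2), map_natCast, mul_comm],
    Finset.sum_const, D.cardY, nsmul_eq_mul, hT, principalIrr_apply, principalIrr_apply, map_one,
    ← Finset.sum_filter_add_sum_filter_not A (fun χ : IrrCharacter G => (χ : G → ℂ) t = (qN L : ℂ)),
    Finset.sum_congr rfl fun (χ : IrrCharacter G) hχ =>
      show (χ : G → ℂ) g * conj ((χ : G → ℂ) t) = (qN L : ℂ) * (χ : G → ℂ) g by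
        rw [(Finset.mem_filter.1 hχ).2, map_natCast, mul_comm],
    Finset.sum_congr rfl fun (χ : IrrCharacter G) hχ =>
      show (χ : G → ℂ) g * conj ((χ : G → ℂ) t) = -((qN L : ℂ) * (χ : G → ℂ) g) by
        obtain ⟨h1, h2⟩ := Finset.mem_filter.1 hχ
        rw [(hAt χ h1).resolve_left h2, map_neg, map_natCast, mul_neg, mul_comm],
    ← Finset.mul_sum, Finset.sum_neg_distrib, ← Finset.mul_sum] at h0
  rw [← Finset.sum_filter_add_sum_filter_not A
    (fun χ : IrrCharacter G => (χ : G → ℂ) t = (qN L : ℂ))] at hrel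
  refine mul_left_cancel₀ (mul_ne_zero two_ne_zero hq0) ?_
  linear_combination h0 + (qN L : ℂ) * hrel + hq

include h D hy hye ht ht2 htu in
/-- No character has degree `n p + 1`: the centraliser of `t` consists of its conjugates. -/
theorem conj_of_empty (hA : A.card = 0) {g : G}
    (hg : g ∈ Subgroup.centralizer ({t} : Set G)) (hg1 : g ≠ 1) : IsConj g t := by
  by_contra hgt
  have := phi_plus h D hy hye ht ht2 htu (Or.inl hA) hg hg1 hgt
  rw [Finset.card_eq_zero.1 hA, Finset.filter_empty, Finset.sum_empty] at this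
  exact zero_ne_one (neg_eq_zero.1 this.symm).symm

include h D hy hye ht ht2 htu in
theorem centralizer_other {g : G} (hg : g ∈ Subgroup.zpowers y) (hg1 : g ≠ 1) (hgt : g ≠ t) :
    Nat.card (Subgroup.centralizer ({g} : Set G)) = eN L := by
  set f : Subgroup.zpowers y → ℤ := fun k =>
    (Nat.card (Subgroup.centralizer ({(k : G)} : Set G)) : ℤ) with hf
  set t' : Subgroup.zpowers y := ⟨t, ht⟩ with ht'
  set S : Finset (Subgroup.zpowers y) := (Finset.univ.erase 1).erase t' with hS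
  have htm : t' ∈ Finset.univ.erase (1 : Subgroup.zpowers y) :=
    Finset.mem_erase.2 ⟨fun e => t_ne_one ht2 (congrArg Subtype.val e), Finset.mem_univ _⟩
  have hle := sum_centralizer_le h D hy hye
  rw [← Finset.add_sum_erase _ _ htm] at hle
  simp only [ht', card_centralizer_t h D hy hye ht ht2 htu] at hle
  have hlow : ∀ k ∈ S, (eN L : ℤ) ≤ f k := fun k _ => by
    simp only [hf]
    exact_mod_cast eN_le_centralizer hye k.2
  have hcard : (S.card : ℤ) = (eN L : ℤ) - 2 := by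
    have h1 := Finset.card_erase_of_mem htm
    have h2 := Finset.card_erase_of_mem (Finset.mem_univ (1 : Subgroup.zpowers y))
    rw [Finset.card_univ, ← Nat.card_eq_fintype_card, card_zpowers_gen hye] at h2
    have := e_eq' D
    rw [hS, h1, h2]
    omega
  have hq : (qN L : ℤ) = n + 1 := by exact_mod_cast q_eq D
  have he : (eN L : ℤ) = A.card * qN L + 2 := by exact_mod_cast e_eq' D
  have hsum : ∑ k ∈ S, (eN L : ℤ) = ∑ k ∈ S, f k := by
    refine le_antisymm (Finset.sum_le_sum hlow) ?_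
    rw [Finset.sum_const, nsmul_eq_mul, hcard]
    push_cast at hle
    have h3 : (A.card : ℤ) * (n + 1) * ((eN L : ℤ) - n - 1) =
        ((eN L : ℤ) - 2) * ((eN L : ℤ) - qN L) := by
      linear_combination (-((eN L : ℤ) - qN L)) * he - (A.card : ℤ) * ((eN L : ℤ) - 2 * qN L) * hq +
        (A.card : ℤ) * ((n : ℤ) + 1 - qN L) * hq
    rw [h3] at hle
    nlinarith
  have := (Finset.sum_eq_sum_iff_of_le hlow).1 hsum ⟨g, hg⟩ (Finset.mem_erase.2
    ⟨fun e => hgt (congrArg Subtype.val e), Finset.mem_erase.2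
      ⟨fun e => hg1 (congrArg Subtype.val e), Finset.mem_univ _⟩⟩)
  simp only [hf] at this
  exact_mod_cast this.symm

end CfsgLib.BrauerReynolds
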