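import Mathlib.RingTheory.Int.Basic
import Mathlib.Tactic.LinearCombination
import Mathlib.Tactic.Linarith
import Mathlib.Tactic.Ring

/-!
# Divisibility conditions on the degrees in the principal block

`p` is a prime, `p - 1 = e q` and `e (n p + 1)` is the part prime to `p` of the group order.
-/

set_option autoImplicit false

namespace CfsgLib.BrauerReynolds

theorem deg_plus {p e q n m u : ℤ} (hp : 3 ≤ p) (hpe : p - 1 = e * q) (he : 1 ≤ e) (hq : 1 ≤ q)
    (hn : 2 * n < p + 3) (hu : 1 ≤ u) (hm : 1 ≤ m) (h : (u * p + 1) * m = e * (n * p + 1)) :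
    u = n := by
  set w := e * n - u * m with hw
  have hmw : m = e + w * p := by rw [hw]; linear_combination h
  have hep : e ≤ p - 1 := by nlinarith
  have hw0 : 0 ≤ w := by
    by_contra hc
    have : w ≤ -1 := by omega
    nlinarith
  rcases hw0.eq_or_lt with h0 | h0
  · have : e * u = e * n := by
      have hm' : m = e := by rw [hmw, ← h0]; ring
      rw [hm'] at hw
      linarith
    exact mul_left_cancel₀ (by omega) this
  exfalso
  set s := n - u - w * u * q with hs
  have hse : s * e = w * (u + 1) := by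
    rw [hs]
    linear_combination (u * w) * hpe + (-1 : ℤ) * hw + u * hmw
  have hs1 : 1 ≤ s := by nlinarith
  have h2 : s * (p - 1) ≤ 2 * w * u * q := by
    rw [hpe, ← mul_assoc, hse]
    exact mul_le_mul_of_nonneg_right (by nlinarith) (by omega)
  nlinarith

theorem deg_minus {p e q n m u : ℤ} (hp : 3 ≤ p) (hpe : p - 1 = e * q) (he : 1 ≤ e) (hq : 1 ≤ q)
    (hn : 2 * n < p + 3) (hn0 : 0 ≤ n) (hu : 1 ≤ u) (hm : 1 ≤ m)
    (h : (u * p - 1) * m = e * (n * p + 1))
    (hsq : (u * p - 1) ^ 2 ≤ p * e * (n * p + 1)) : u = 1 := by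
  by_contra hu'
  have hu2 : 2 ≤ u := by omega
  set w := u * m - e * n with hw
  have hmw : m = w * p - e := by rw [hw]; linear_combination -h
  have hw1 : 1 ≤ w := by
    by_contra hc
    have : w ≤ 0 := by omega
    nlinarith
  set s := n + u - w * u * q with hs
  have hse : s * e = w * (u - 1) := by
    rw [hs]
    linear_combination (u * w) * hpe + hw + u * hmw
  have hs1 : 1 ≤ s := by nlinarith
  have hwuq : w * u * q = s * (p - 1) + w * q := by
    have h1 : e * (w * u * q) = e * (s * (p - 1) + w * q) := by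
      linear_combination (-(p - 1)) * hse + (-(w * u - w)) * hpe
    exact mul_left_cancel₀ (by omega) h1
  rcases (show q = 1 ∨ 2 ≤ q by omega) with rfl | hq2
  · rcases (show w = 1 ∨ 2 ≤ w by omega) with h1 | h1
    · -- the degree would be all of `e (n p + 1)`
      have hm1 : m = 1 := by rw [hmw, h1]; linarith
      rw [hm1, mul_one] at h
      have hpos : 0 < u * p - 1 := by nlinarith
      have : u * p - 1 ≤ p := by
        refine le_of_mul_le_mul_right ?_ hpos
        rw [← sq, mul_assoc p e, ← h] at *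
        linarith
      nlinarith
    · have : 2 * (u - 1) ≤ s * e := by nlinarith
      nlinarith
  · have h2e : 2 * e ≤ p - 1 := by nlinarith
    have : u - 1 ≤ s * e := by nlinarith
    nlinarith

theorem exc_plus {p e q n m u : ℤ} (hp : 3 ≤ p) (hprime : Prime p) (hpe : p - 1 = e * q)
    (he : 1 ≤ e) (hq : 2 ≤ q) (hn : 2 * n < p + 3) (hn0 : 0 ≤ n) (hu : 0 ≤ u) (hm : 1 ≤ m)
    (h : (u * p + e) * m = e * (n * p + 1))
    (hsq : 2 * (u * p + e) ^ 2 ≤ p * e * (n * p + 1)) : u = 0 := by
  by_contra hu'
  have hu1 : 1 ≤ u := by omega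
  have hdvd : p ∣ e * (m - 1) := ⟨e * n - u * m, by linear_combination h⟩
  obtain ⟨w, hw⟩ : p ∣ m - 1 := by
    rcases hprime.dvd_or_dvd hdvd with hd | hd
    · exact absurd (Int.le_of_dvd (by omega) hd) (by nlinarith)
    · exact hd
  have hw0 : 0 ≤ w := by
    by_contra hc
    have : w ≤ -1 := by omega
    nlinarith
  have hen : e * n = u + w * u * p + w * e := by
    refine mul_right_cancel₀ (show p ≠ 0 by omega) ?_
    linear_combination -h + (u * p + e) * hw
  rcases hw0.eq_or_lt with h0 | h0
  · have hm1 : m = 1 := by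
      have : p * w = 0 := by rw [← h0]; ring
      omega
    rw [hm1, mul_one] at h
    have hpos : 0 < u * p + e := by nlinarith
    have : 2 * (u * p + e) ≤ p := by
      refine le_of_mul_le_mul_right ?_ hpos
      rw [mul_assoc p e, ← h, sq] at hsq
      linarith
    nlinarith
  set s := n - w - w * u * q with hs
  have hse : s * e = u + w * u := by
    rw [hs]
    linear_combination (u * w) * hpe + hen
  have hs1 : 1 ≤ s := by nlinarith
  have h2 : s * (p - 1) ≤ 2 * w * u * q := by
    rw [hpe, ← mul_assoc, hse]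
    exact mul_le_mul_of_nonneg_right (by nlinarith) (by omega)
  nlinarith

theorem exc_minus {p e q n m u : ℤ} (hp : 3 ≤ p) (hprime : Prime p) (hpe : p - 1 = e * q)
    (he : 1 ≤ e) (hq : 2 ≤ q) (hn : 2 * n < p + 3) (hn0 : 0 ≤ n) (hu : 1 ≤ u) (hm : 1 ≤ m)
    (h : (u * p - e) * m = e * (n * p + 1)) : n + 1 = u * q := by
  have hdvd : p ∣ e * (m + 1) := ⟨u * m - e * n, by linear_combination -h⟩
  obtain ⟨w, hw⟩ : p ∣ m + 1 := by
    rcases hprime.dvd_or_dvd hdvd with hd | hd
    · exact absurd (Int.le_of_dvd (by omega) hd) (by nlinarith)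
    · exact hd
  have hw1 : 1 ≤ w := by
    by_contra hc
    have : w ≤ 0 := by omega
    nlinarith
  have hen : e * n = w * u * p - u - w * e := by
    refine mul_right_cancel₀ (show p ≠ 0 by omega) ?_
    linear_combination -h + (u * p - e) * hw
  rcases hw1.eq_or_lt with h0 | h0
  · subst h0
    refine mul_left_cancel₀ (show e ≠ 0 by omega) ?_
    linear_combination hen + u * hpe
  exfalso
  set s := n + w - w * u * q with hs
  have hse : s * e = u * (w - 1) := by
    rw [hs]
    linear_combination (u * w) * hpe + hen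
  have hs1 : 1 ≤ s := by nlinarith
  have hwuq : w * u * q = s * (p - 1) + u * q := by
    refine mul_left_cancel₀ (show e ≠ 0 by omega) ?_
    linear_combination (-(p - 1)) * hse - (u * w - u) * hpe + 0 * hen
  have h2e : 2 * e ≤ p - 1 := by nlinarith
  have : w - 1 ≤ s * e := by nlinarith
  nlinarith

theorem deg_plus' {p E n m u : ℤ} (hn : E * n < p) (hE : 1 ≤ E) (hEp : E < p)
    (hu : 1 ≤ u) (hm : 1 ≤ m) (h : (u * p + 1) * m = E * (n * p + 1)) : u = n := by
  set w := E * n - u * m with hw
  have hmw : m = E + w * p := by rw [hw]; linear_combination h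
  have hw0 : 0 ≤ w := by
    by_contra hc
    have : w ≤ -1 := by omega
    nlinarith
  rcases hw0.eq_or_lt with h0 | h0
  · have hm' : m = E := by rw [hmw, ← h0]; ring
    refine mul_left_cancel₀ (show E ≠ 0 by omega) ?_
    rw [hm'] at hw
    linarith
  · exfalso
    have : u * p ≤ u * m := by
      refine mul_le_mul_of_nonneg_left ?_ (by omega)
      nlinarith
    nlinarith

theorem deg_minus' {p E n m u : ℤ} (hn : E * n < p) (hE : 1 ≤ E) (hn0 : 0 ≤ n) (hE2 : 2 * E < p)
    (hu : 1 ≤ u) (hm : 1 ≤ m) (h : (u * p - 1) * m = E * (n * p + 1)) : u = 1 := by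
  by_contra hu'
  have hu2 : 2 ≤ u := by omega
  set w := u * m - E * n with hw
  have hmw : m = w * p - E := by rw [hw]; linear_combination -h
  have hw1 : 1 ≤ w := by
    by_contra hc
    have : w ≤ 0 := by omega
    nlinarith
  have h1 : u * (p - E) ≤ u * m := mul_le_mul_of_nonneg_left (by nlinarith) (by omega)
  have h2 : w * p ≤ w * (u * p) - 0 := by nlinarith
  nlinarith

end CfsgLib.BrauerReynolds
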