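import Cfsg.Agent.Lib.BrauerReynolds.Degrees

/-!
# The cyclic complement in the normaliser
-/

set_option autoImplicit false
set_option linter.style.haveILetI false
set_option linter.unusedSectionVars false

noncomputable section

namespace CfsgLib.BrauerReynolds

open Cfsg CfsgLib.Characters CfsgLib.CyclicDefect
open scoped ComplexConjugate Classical

universe u

variable {p : ℕ} [hp : Fact p.Prime] {G : Type u} [Group G] [Fintype G]
variable {L : Loc p G} {n u : ℕ} {A B Y R : Finset (IrrCharacter G)}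
variable (h : Hyp L n) (D : Deg L n u A B Y R) {y : G} (hy : y ∈ L.N) (hye : orderOf y = eN L)

omit [Fintype G] hp in
theorem coe_ne_one {g : Subgroup.zpowers y} (hg : g ≠ 1) : (g : G) ≠ 1 := fun e =>
  hg (Subtype.ext e)

include D in
theorem Deg.u_lt : u < eN L := by
  have := D.countA
  omega

include D in
theorem Deg.e_eq : (eN L : ℂ) = (A.card : ℂ) * (n + 1) + u + 1 := by exact_mod_cast D.countA.symm

include D in
theorem Deg.p_eq : (p : ℂ) = (eN L : ℂ) * qN L + 1 := by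
  have h1 := eN_mul_qN' L
  have := hp.out.one_le
  exact_mod_cast (show p = eN L * qN L + 1 by omega)

include h D hy hye in
theorem fixA {χ : IrrCharacter G} (hχ : χ ∈ A) :
    fixDim L (χ : G → ℂ) = ((n + 1 : ℕ) : ℂ) := by
  rw [fixDim_eq (D.valA χ hχ), D.degA χ hχ, div_eq_iff (Nat.cast_ne_zero.2 hp.out.ne_zero)]
  push_cast
  ring

include D in
theorem sum_fixY : ∑ ψ ∈ Y, fixDim L (ψ : G → ℂ) = (qN L : ℂ) * u := by
  simp only [fixDim, ← Finset.mul_sum]
  rw [Finset.sum_comm, ← Finset.add_sum_erase _ _ (Finset.mem_univ (1 : (L.P : Subgroup G))),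
    Finset.sum_congr rfl fun (z : ↥(L.P : Subgroup G)) hz =>
      D.sumY (z : G) z.2 fun e => Finset.ne_of_mem_erase hz (Subtype.ext e),
    Subgroup.coe_one, Finset.sum_congr rfl D.degY, Finset.sum_const, Finset.sum_const, D.cardY,
    Finset.card_erase_of_mem (Finset.mem_univ _), Finset.card_univ,
    ← Nat.card_eq_fintype_card, L.hP, nsmul_eq_mul, nsmul_eq_mul,
    Nat.cast_sub hp.out.one_le, Nat.cast_one, inv_mul_eq_iff_eq_mul₀
      (Nat.cast_ne_zero.2 hp.out.ne_zero)]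
  linear_combination (-(sgn u : ℂ)) * D.p_eq

include h D hy hye in
theorem fixY {ψ : IrrCharacter G} (hψ : ψ ∈ Y) : fixDim L (ψ : G → ℂ) = (u : ℂ) := by
  have hex : ∀ φ : IrrCharacter G, ∃ w : ℕ, fixDim L (φ : G → ℂ) = w := fun φ => by
    obtain ⟨w, hw⟩ := exists_degree (h.isCharacter_fix hy hye (irr_isCharacter φ))
    exact ⟨w, by rwa [if_pos rfl] at hw⟩
  choose w hw using hex
  have hsum : ∑ φ ∈ Y, w φ = qN L * u := by
    have := sum_fixY D
    simp only [hw] at this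
    exact_mod_cast this
  have hle : ∀ φ ∈ Y, u ≤ w φ := by
    intro φ hφ
    obtain ⟨m, hm⟩ := sum_nat (H := Subgroup.zpowers y)
      (F := fun g : Subgroup.zpowers y => (φ : G → ℂ) g) (by
        obtain ⟨d, ρ, hρ⟩ := irr_isCharacter φ
        exact ⟨d, ρ.comp (Subgroup.zpowers y).subtype, by funext g; rw [← hρ]; rfl⟩)
    obtain ⟨m', hm'⟩ := sum_nat (h.isCharacter_fix hy hye (irr_isCharacter φ))
    rw [← Finset.add_sum_erase _ _ (Finset.mem_univ (1 : Subgroup.zpowers y))] at hm hm'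
    rw [Finset.sum_congr rfl (fun g hg => if_neg (Finset.ne_of_mem_erase hg)), if_pos rfl, hw]
      at hm'
    rw [Subgroup.coe_one, D.degY φ hφ] at hm
    rw [card_zpowers_gen hye] at hm hm'
    have key : (eN L : ℤ) ∣ (u : ℤ) - (w φ : ℤ) := by
      refine ⟨(m : ℤ) - m' - sgn u - u * qN L, ?_⟩
      apply Int.cast_injective (α := ℂ)
      push_cast
      linear_combination hm - hm' - (u : ℂ) * D.p_eq
    by_contra hlt
    have := Int.le_of_dvd (by omega) key
    have := D.u_lt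
    omega
  have heq := (Finset.sum_eq_sum_iff_of_le hle).1 (by
    rw [hsum, Finset.sum_const, D.cardY, smul_eq_mul])
  rw [hw, heq ψ hψ]

include h D hy hye in
theorem psi_zero (hu : u = 0) {ψ : IrrCharacter G} (hψ : ψ ∈ Y) {g : G}
    (hg : g ∈ Subgroup.zpowers y) (hg1 : g ≠ 1) : (ψ : G → ℂ) g = 0 := by
  have h0 := NormalAvg.eq_zero_of_degree_zero (h.isCharacter_fix hy hye (irr_isCharacter ψ))
    (by rw [if_pos rfl, fixY h D hy hye hψ, hu, Nat.cast_zero])
  have := congrFun h0 ⟨g, hg⟩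
  rwa [if_neg fun e => hg1 (congrArg Subtype.val e)] at this

include h D hy hye in
theorem valB_zero {χ : IrrCharacter G} (hχ : χ ∈ B) {g : G}
    (hg : g ∈ Subgroup.zpowers y) (hg1 : g ≠ 1) : (χ : G → ℂ) g = 0 :=
  h.zero_of_minus (irr_isCharacter χ) (D.degB χ hχ) (D.valB χ hχ) hy hye hg hg1

include h D hy hye in
/-- The relation on the complement. -/
theorem rel_zero {ψ : IrrCharacter G} (hψ : ψ ∈ Y) {g : G} (hg : g ∈ Subgroup.zpowers y)
    (hg1 : g ≠ 1) : 1 + ∑ χ ∈ A, (χ : G → ℂ) g + (ψ : G → ℂ) g = 0 := by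
  have h1 := D.rel ψ hψ g (regular_of_mem hye hg)
  rw [Finset.sum_eq_zero fun χ hχ => valB_zero h D hy hye hχ hg hg1, sub_zero] at h1
  by_cases hu : u = 0
  · have h2 := psi_zero h D hy hye hu hψ hg hg1
    rw [h2, mul_zero] at h1
    rw [h2, add_zero, ← h1]
  · rw [sgn, if_neg hu] at h1
    push_cast at h1
    linear_combination -h1

/-- The restriction to the complement, corrected at the identity. -/
def FF (L : Loc p G) (y : G) (χ : G → ℂ) (g : Subgroup.zpowers y) : ℂ :=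
  if g = 1 then fixDim L χ else χ g

include h D hy hye in
theorem isCharacter_rest {ψ : IrrCharacter G} (hψ : ψ ∈ Y) :
    IsCharacter (Subgroup.zpowers y) (FF L y (ψ : G → ℂ)) ∧
    ∀ s : Finset (IrrCharacter G), IsCharacter (Subgroup.zpowers y)
      (fun g => 1 + ∑ χ ∈ s, FF L y (χ : G → ℂ) g + FF L y (ψ : G → ℂ) g) := by
  refine ⟨h.isCharacter_fix hy hye (irr_isCharacter ψ), fun s => ?_⟩
  have h1 := isCharacter_sum s (f := fun χ : IrrCharacter G => FF L y (χ : G → ℂ))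
    fun χ _ => h.isCharacter_fix hy hye (irr_isCharacter χ)
  have h2 := isCharacter_add (isCharacter_add isCharacter_one h1)
    (h.isCharacter_fix hy hye (irr_isCharacter ψ))
  convert h2 using 1
  funext g
  simp [Finset.sum_apply, FF]

include h D hy hye in
theorem regular_one {ψ : IrrCharacter G} (hψ : ψ ∈ Y) :
    1 + ∑ χ ∈ A, FF L y (χ : G → ℂ) 1 + FF L y (ψ : G → ℂ) 1 = (eN L : ℂ) := by
  simp only [FF, if_pos]
  rw [Finset.sum_congr rfl (fun χ hχ => fixA h D hy hye hχ), fixY h D hy hye hψ, Finset.sum_const,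
    nsmul_eq_mul, D.e_eq]
  push_cast
  ring

include h D hy hye in
theorem regular_ne {ψ : IrrCharacter G} (hψ : ψ ∈ Y) {g : Subgroup.zpowers y} (hg : g ≠ 1) :
    1 + ∑ χ ∈ A, FF L y (χ : G → ℂ) g + FF L y (ψ : G → ℂ) g = 0 := by
  simp only [FF, if_neg hg]
  exact rel_zero h D hy hye hψ g.2 (coe_ne_one hg)

include h D hy hye in
/-- The trivial character occurs once. -/
theorem sum_FF_zero {χ : IrrCharacter G} (hχ : χ ∈ A ∨ χ ∈ Y) :
    ∑ g, FF L y (χ : G → ℂ) g = 0 := by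
  obtain ⟨ψ, hψ, hχ'⟩ : ∃ ψ ∈ Y, χ ∈ A ∨ χ = ψ := by
    rcases hχ with h1 | h1
    · obtain ⟨ψ, hψ⟩ : Y.Nonempty := Finset.card_pos.1 (by
        rw [D.cardY]; have := D.two_le_q; omega)
      exact ⟨ψ, hψ, Or.inl h1⟩
    · exact ⟨χ, h1, Or.inr rfl⟩
  have hm : ∀ φ : IrrCharacter G, ∃ m : ℕ,
      ∑ g, FF L y (φ : G → ℂ) g = (Nat.card (Subgroup.zpowers y) : ℂ) * m := fun φ =>
    sum_nat (h.isCharacter_fix hy hye (irr_isCharacter φ))
  choose m hm using hm
  have hS : ∑ g, (1 + ∑ φ ∈ A, FF L y (φ : G → ℂ) g + FF L y (ψ : G → ℂ) g) = (eN L : ℂ) := by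
    rw [Fintype.sum_eq_single (1 : Subgroup.zpowers y) fun g hg => regular_ne h D hy hye hψ hg,
      regular_one h D hy hye hψ]
  simp only [Finset.sum_add_distrib] at hS
  rw [Finset.sum_comm, Finset.sum_congr rfl (fun φ _ => hm φ), hm ψ, Finset.sum_const,
    Finset.card_univ, ← Nat.card_eq_fintype_card, card_zpowers_gen hye, nsmul_one,
    ← Finset.mul_sum] at hS
  have hS' : eN L + eN L * ∑ φ ∈ A, m φ + eN L * m ψ = eN L := by exact_mod_cast hS
  have he := one_le_eN L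
  have h0 : ∑ φ ∈ A, m φ + m ψ = 0 := by nlinarith
  have hz : m χ = 0 := by
    rcases hχ' with h1 | h1
    · exact Finset.sum_eq_zero_iff.1 (by omega) χ h1
    · rw [h1]; omega
  rw [hm, hz, Nat.cast_zero, mul_zero]

include h D hy hye in
theorem sum_val {χ : IrrCharacter G} (hχ : χ ∈ A ∨ χ ∈ Y) {w : ℕ}
    (hw : fixDim L (χ : G → ℂ) = w) :
    ∑ g : Subgroup.zpowers y, (χ : G → ℂ) g = (χ : G → ℂ) 1 - w := by
  have h0 := sum_FF_zero h D hy hye hχ
  rw [← Finset.add_sum_erase _ _ (Finset.mem_univ (1 : Subgroup.zpowers y))] at h0 ⊢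
  simp only [FF, if_pos, hw] at h0
  rw [Finset.sum_congr rfl (fun g hg => if_neg (Finset.ne_of_mem_erase hg))] at h0
  rw [Subgroup.coe_one]
  linear_combination h0

include h D hy hye in
theorem sum_sq_bound {χ : IrrCharacter G} (hχ : χ ∈ A ∨ χ ∈ Y) {w : ℕ}
    (hw : fixDim L (χ : G → ℂ) = w) :
    ∃ m : ℕ, m ≤ w ∧ ∑ g ∈ Finset.univ.erase (1 : Subgroup.zpowers y),
      (χ : G → ℂ) g * conj ((χ : G → ℂ) g) = (eN L : ℂ) * m - (w : ℂ) ^ 2 := by
  have hF := h.isCharacter_fix hy hye (irr_isCharacter χ)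
  obtain ⟨T, hT, h1, h0⟩ : ∃ T : Subgroup.zpowers y → ℂ, IsCharacter _ T ∧
      FF L y (χ : G → ℂ) 1 + T 1 = (eN L : ℂ) ∧
      ∀ g, g ≠ 1 → FF L y (χ : G → ℂ) g + T g = 0 := by
    rcases hχ with hA | hY
    · obtain ⟨ψ, hψ⟩ : Y.Nonempty := Finset.card_pos.1 (by
        rw [D.cardY]; have := D.two_le_q; omega)
      refine ⟨_, (isCharacter_rest h D hy hye hψ).2 (A.erase χ), ?_, fun g hg => ?_⟩
      · rw [← regular_one h D hy hye hψ, ← Finset.add_sum_erase A _ hA]
        ring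
      · rw [← regular_ne h D hy hye hψ hg, ← Finset.add_sum_erase A _ hA]
        ring
    · have hone := isCharacter_sum A (f := fun φ : IrrCharacter G => FF L y (φ : G → ℂ))
        fun φ _ => h.isCharacter_fix hy hye (irr_isCharacter φ)
      refine ⟨_, isCharacter_add isCharacter_one hone, ?_, fun g hg => ?_⟩
      · rw [← regular_one h D hy hye hY]
        simp only [Pi.add_apply, Pi.one_apply, Finset.sum_apply]
        ring
      · rw [← regular_ne h D hy hye hY hg]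
        simp only [Pi.add_apply, Pi.one_apply, Finset.sum_apply]
        ring
  obtain ⟨m, hm, hsum⟩ := sum_sq_le (F := FF L y (χ : G → ℂ)) hF hT (d := w)
    (by simp only [FF, if_pos, hw]) (by rw [card_zpowers_gen hye]; exact h1) h0
  refine ⟨m, hm, ?_⟩
  rw [← Finset.add_sum_erase _ _ (Finset.mem_univ (1 : Subgroup.zpowers y)), card_zpowers_gen hye]
    at hsum
  simp only [FF, if_pos, hw, map_natCast] at hsum
  rw [Finset.sum_congr rfl (fun g hg => by rw [if_neg (Finset.ne_of_mem_erase hg)])] at hsum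
  rw [← hsum]
  ring

/-- The multiplicity of the regular representation of the Sylow subgroup. -/
def kk (p : ℕ) (χ : IrrCharacter G) : ℕ := charDegree (χ : G → ℂ) / p

include D in
theorem deg_R {χ : IrrCharacter G} (hχ : χ ∈ R) :
    0 < kk p χ ∧ (χ : G → ℂ) 1 = (p : ℂ) * (kk p χ : ℂ) := by
  obtain ⟨-, k, hk0, hk⟩ := D.outside χ hχ
  rw [deg_eq, ← Nat.cast_mul, Nat.cast_inj] at hk
  rw [kk, deg_eq, hk, Nat.mul_div_cancel_left _ hp.out.pos, Nat.cast_mul]
  exact ⟨hk0, rfl⟩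

include D in
theorem deg_poly {ψ : IrrCharacter G} (hψ : ψ ∈ Y) :
    ((qN L : ℂ) * (ψ : G → ℂ) 1 - ((n : ℂ) * p + 1)) * (u : ℂ) = 0 := by
  rcases D.caseu with hu | hu
  · rw [hu, Nat.cast_zero, mul_zero]
  · have hu0 : u ≠ 0 := fun e => by rw [e, zero_mul] at hu; omega
    have hu' : (u : ℂ) * qN L = n + 1 := by exact_mod_cast hu
    rw [D.degY ψ hψ, sgn, if_neg hu0]
    push_cast
    linear_combination (p : ℂ) * u * hu' + (u : ℂ) * D.p_eq

include h D in
theorem sum_k_sq : ∑ χ ∈ R, (kk p χ : ℂ) ^ 2 = n := by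
  have h0 := sum_sq_degrees (G := G)
  rw [D.split, Finset.sum_congr rfl fun (χ : IrrCharacter G) hχ => congrArg (· ^ 2) (D.degA χ hχ),
    Finset.sum_congr rfl fun (χ : IrrCharacter G) hχ => congrArg (· ^ 2) (D.degB χ hχ),
    Finset.sum_congr rfl fun (χ : IrrCharacter G) hχ => congrArg (· ^ 2) (D.degY χ hχ),
    Finset.sum_congr rfl fun (χ : IrrCharacter G) hχ => show (χ : G → ℂ) 1 ^ 2 =
      (p : ℂ) ^ 2 * (kk p χ : ℂ) ^ 2 by rw [(deg_R D hχ).2, mul_pow],
    principalIrr_apply, Finset.sum_const, Finset.sum_const, Finset.sum_const, D.cardY,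
    D.countB, ← Finset.mul_sum, h.hG] at h0
  refine mul_left_cancel₀ (pow_ne_zero 2 (Nat.cast_ne_zero.2 hp.out.ne_zero)) ?_
  simp only [nsmul_eq_mul] at h0
  push_cast at h0
  rcases D.caseu with hu | hu
  · subst hu
    simp only [sgn, if_pos] at h0
    push_cast at h0
    rw [D.p_eq] at h0 ⊢
    rw [D.e_eq] at h0 ⊢
    push_cast at h0 ⊢
    linear_combination h0
  · have hu0 : u ≠ 0 := fun e => by rw [e, zero_mul] at hu; omega
    have hu' : (n : ℂ) = (u : ℂ) * qN L - 1 := eq_sub_of_add_eq (by exact_mod_cast hu.symm)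
    simp only [sgn, if_neg hu0] at h0
    push_cast at h0
    rw [D.p_eq] at h0 ⊢
    rw [D.e_eq] at h0 ⊢
    rw [hu'] at h0 ⊢
    linear_combination h0

include h D hy hye in
theorem valR {χ : IrrCharacter G} (hχ : χ ∈ R) {g : G} (hg : g ∈ Subgroup.zpowers y)
    (hg1 : g ≠ 1) : (χ : G → ℂ) g = (kk p χ : ℂ) := by
  obtain ⟨ψ, hψ⟩ : Y.Nonempty := Finset.card_pos.1 (by
    rw [D.cardY]; have := D.two_le_q; omega)
  have hle : ∀ φ ∈ R, ‖(φ : G → ℂ) g‖ ≤ (kk p φ : ℝ) := by
    intro φ hφ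
    have h1 := norm_le_degree_of_isCharacter (h.isCharacter_fix hy hye (irr_isCharacter φ))
      (⟨g, hg⟩ : Subgroup.zpowers y)
    rw [if_pos rfl, fixDim_eq ((D.outside φ hφ).1), (deg_R D hφ).2, mul_zero, add_zero,
      mul_div_cancel_left₀ _ (Nat.cast_ne_zero.2 hp.out.ne_zero), Complex.norm_natCast,
      if_neg fun e => hg1 (congrArg Subtype.val e)] at h1
    exact h1
  have hT : ∑ φ ∈ R, (kk p φ : ℂ) * (φ : G → ℂ) g = n := by
    have h0 := sum_degree_mul_irr g
    rw [if_neg hg1, D.split,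
      Finset.sum_congr rfl fun (φ : IrrCharacter G) hφ => congrArg (· * (φ : G → ℂ) g) (D.degA φ hφ),
      Finset.sum_eq_zero fun (φ : IrrCharacter G) hφ => show (φ : G → ℂ) 1 * (φ : G → ℂ) g = 0 by
        rw [valB_zero h D hy hye hφ hg hg1, mul_zero],
      Finset.sum_congr rfl fun (φ : IrrCharacter G) hφ => show (φ : G → ℂ) 1 * (φ : G → ℂ) g =
          (ψ : G → ℂ) 1 * (ψ : G → ℂ) g by
        rw [D.regY φ hφ ψ hψ g (regular_of_mem hye hg),
          D.regY φ hφ ψ hψ 1 (by rw [orderOf_one]; exact hp.out.not_dvd_one)],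
      Finset.sum_congr rfl fun (φ : IrrCharacter G) hφ => show (φ : G → ℂ) 1 * (φ : G → ℂ) g =
          (p : ℂ) * ((kk p φ : ℂ) * (φ : G → ℂ) g) by rw [(deg_R D hφ).2, mul_assoc],
      ← Finset.mul_sum, ← Finset.mul_sum, Finset.sum_const, D.cardY, nsmul_eq_mul,
      principalIrr_apply, principalIrr_apply] at h0
    have hrel := rel_zero h D hy hye hψ hg hg1
    have hz : ((qN L : ℂ) * (ψ : G → ℂ) 1 - ((n : ℂ) * p + 1)) * (ψ : G → ℂ) g = 0 := by
      rcases Nat.eq_zero_or_pos u with hu | hu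
      · rw [psi_zero h D hy hye hu hψ hg hg1, mul_zero]
      · rw [(mul_eq_zero.1 (deg_poly D hψ)).resolve_right (Nat.cast_ne_zero.2 hu.ne'), zero_mul]
    refine mul_left_cancel₀ (Nat.cast_ne_zero.2 hp.out.ne_zero : (p : ℂ) ≠ 0) ?_
    rw [Finset.mul_sum]
    linear_combination h0 - ((n : ℂ) * p + 1) * hrel - hz
  have hre : ∑ φ ∈ R, (kk p φ : ℝ) * ((kk p φ : ℝ) - ((φ : G → ℂ) g).re) = 0 := by
    have h2 : (∑ φ ∈ R, ((kk p φ : ℂ) * (kk p φ : ℂ) - (kk p φ : ℂ) * (φ : G → ℂ) g)).re = 0 := by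
      rw [Finset.sum_sub_distrib, hT, Finset.sum_congr rfl fun φ _ => (sq (kk p φ : ℂ)).symm,
        sum_k_sq h D, sub_self, Complex.zero_re]
    rw [Complex.re_sum] at h2
    rw [← h2]
    refine Finset.sum_congr rfl fun φ _ => ?_
    simp [Complex.mul_re]
    ring
  rw [Finset.sum_eq_zero_iff_of_nonneg fun φ hφ => mul_nonneg (Nat.cast_nonneg _)
    (sub_nonneg.2 ((Complex.re_le_norm _).trans (hle φ hφ)))] at hre
  have h3 := (mul_eq_zero.1 (hre χ hχ)).resolve_left (Nat.cast_ne_zero.2 (deg_R D hχ).1.ne')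
  have h4 : ((χ : G → ℂ) g).re = (kk p χ : ℝ) := by linarith
  refine Complex.ext (by rw [h4, Complex.natCast_re]) ?_
  rw [Complex.natCast_im]
  have h5 : Complex.normSq ((χ : G → ℂ) g) ≤ (kk p χ : ℝ) ^ 2 := by
    rw [Complex.normSq_eq_norm_sq]
    exact pow_le_pow_left₀ (norm_nonneg _) (hle χ hχ) 2
  rw [Complex.normSq_apply, h4] at h5
  exact mul_self_eq_zero.1 (le_antisymm (by nlinarith) (mul_self_nonneg _))

include h D hy hye in
/-- The order of a centraliser. -/
theorem card_centralizer {ψ : IrrCharacter G} (hψ : ψ ∈ Y) {g : G} (hg : g ∈ Subgroup.zpowers y)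
    (hg1 : g ≠ 1) : (Nat.card (Subgroup.centralizer ({g} : Set G)) : ℂ) =
      1 + n + ∑ χ ∈ A, (χ : G → ℂ) g * conj ((χ : G → ℂ) g) +
        (qN L : ℂ) * ((ψ : G → ℂ) g * conj ((ψ : G → ℂ) g)) := by
  have h0 := column_orth g g
  rw [if_pos (IsConj.refl g), D.split,
    Finset.sum_eq_zero (s := B) fun (χ : IrrCharacter G) hχ =>
      show (χ : G → ℂ) g * conj ((χ : G → ℂ) g) = 0 by
        rw [valB_zero h D hy hye hχ hg hg1, zero_mul],
    Finset.sum_congr (s₁ := Y) rfl fun (χ : IrrCharacter G) hχ =>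
      show (χ : G → ℂ) g * conj ((χ : G → ℂ) g) = (ψ : G → ℂ) g * conj ((ψ : G → ℂ) g) by
        rw [D.regY χ hχ ψ hψ g (regular_of_mem hye hg)],
    Finset.sum_congr (s₁ := R) rfl fun (χ : IrrCharacter G) hχ =>
      show (χ : G → ℂ) g * conj ((χ : G → ℂ) g) = (kk p χ : ℂ) ^ 2 by
        rw [valR h D hy hye hχ hg hg1, map_natCast, sq],
    Finset.sum_const, D.cardY, nsmul_eq_mul, sum_k_sq h D, principalIrr_apply, map_one] at h0
  linear_combination -h0

include h D hy hye in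
/-- Fusion in the complement. -/
theorem card_conj_mul {g : G} (hg : g ∈ Subgroup.zpowers y) (hg1 : g ≠ 1) :
    Nat.card {k : Subgroup.zpowers y // IsConj g (k : G)} *
      Nat.card (Subgroup.centralizer ({g} : Set G)) = (n + 1) * eN L := by
  obtain ⟨ψ, hψ⟩ : Y.Nonempty := Finset.card_pos.1 (by
    rw [D.cardY]; have := D.two_le_q; omega)
  have hlhs : ∑ k : Subgroup.zpowers y, ∑ χ : IrrCharacter G,
      (χ : G → ℂ) g * conj ((χ : G → ℂ) k) =
      (Nat.card {k : Subgroup.zpowers y // IsConj g (k : G)} : ℂ) *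
        Nat.card (Subgroup.centralizer ({g} : Set G)) := by
    simp only [column_orth, ← Finset.sum_filter, Finset.sum_const, nsmul_eq_mul,
      Nat.card_eq_fintype_card, Fintype.card_subtype]
  rw [Finset.sum_comm, D.split] at hlhs
  simp only [← Finset.mul_sum, ← map_sum] at hlhs
  rw [Finset.sum_congr rfl fun (χ : IrrCharacter G) hχ => congrArg (fun t : ℂ => (χ : G → ℂ) g * conj t)
      ((sum_val h D hy hye (Or.inl hχ) (fixA h D hy hye hχ)).trans (by rw [D.degA χ hχ])),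
    Finset.sum_eq_zero fun (χ : IrrCharacter G) hχ =>
      show (χ : G → ℂ) g * conj (∑ k : Subgroup.zpowers y, (χ : G → ℂ) k) = 0 by
        rw [valB_zero h D hy hye hχ hg hg1, zero_mul],
    Finset.sum_congr rfl fun (χ : IrrCharacter G) hχ => congrArg (fun t : ℂ => (χ : G → ℂ) g * conj t)
      ((sum_val h D hy hye (Or.inr hχ) (fixY h D hy hye hχ)).trans (by rw [D.degY χ hχ])),
    Finset.sum_congr rfl fun (χ : IrrCharacter G) hχ =>
      show (χ : G → ℂ) g * conj (∑ k : Subgroup.zpowers y, (χ : G → ℂ) k) =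
        ((p : ℂ) + (eN L : ℂ) - 1) * (kk p χ : ℂ) ^ 2 by
        rw [valR h D hy hye hχ hg hg1,
          ← Finset.add_sum_erase _ _ (Finset.mem_univ (1 : Subgroup.zpowers y)),
          Finset.sum_congr rfl fun k hk =>
            valR h D hy hye hχ k.2 (coe_ne_one (Finset.ne_of_mem_erase hk)),
          Finset.sum_const, Finset.card_erase_of_mem (Finset.mem_univ _), Finset.card_univ,
          ← Nat.card_eq_fintype_card, card_zpowers_gen hye, Subgroup.coe_one, (deg_R D hχ).2,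
          nsmul_eq_mul, Nat.cast_sub (one_le_eN L), Nat.cast_one]
        simp only [map_add, map_mul, map_sub, map_natCast, map_one]
        ring,
    ← Finset.mul_sum, sum_k_sq h D, ← Finset.sum_mul, ← Finset.sum_mul] at hlhs
  simp only [principalIrr_apply, Finset.sum_const, Finset.card_univ, ← Nat.card_eq_fintype_card,
    card_zpowers_gen hye, nsmul_one] at hlhs
  rw [Finset.sum_congr rfl fun (χ : IrrCharacter G) hχ => D.regY χ hχ ψ hψ g (regular_of_mem hye hg),
    Finset.sum_const, D.cardY, nsmul_eq_mul] at hlhs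
  simp only [map_add, map_mul, map_sub, map_natCast, map_one, map_intCast, one_mul] at hlhs
  have hrel := rel_zero h D hy hye hψ hg hg1
  have hz : ((qN L : ℂ) * ((sgn u : ℂ) * eN L + u * p - u) - (n : ℂ) * (p - 1)) *
      (ψ : G → ℂ) g = 0 := by
    rcases D.caseu with hu | hu
    · rw [psi_zero h D hy hye hu hψ hg hg1, mul_zero]
    · have hu0 : u ≠ 0 := fun e => by rw [e, zero_mul] at hu; omega
      have hu' : (u : ℂ) * qN L = n + 1 := by exact_mod_cast hu
      rw [sgn, if_neg hu0]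
      push_cast
      linear_combination ((ψ : G → ℂ) g * ((p : ℂ) - 1)) * hu' + (ψ : G → ℂ) g * D.p_eq
  apply Nat.cast_injective (R := ℂ)
  push_cast at hlhs ⊢
  linear_combination -hlhs + (n : ℂ) * ((p : ℂ) - 1) * hrel + hz

include hye in
theorem eN_dvd_centralizer {g : G} (hg : g ∈ Subgroup.zpowers y) :
    eN L ∣ Nat.card (Subgroup.centralizer ({g} : Set G)) := by
  rw [← card_zpowers_gen hye]
  refine Subgroup.card_dvd_of_le fun k hk => Subgroup.mem_centralizer_singleton_iff.2 ?_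
  haveI := IsCyclic.isMulCommutative (α := Subgroup.zpowers y)
  exact congrArg Subtype.val (mul_comm' (⟨k, hk⟩ : Subgroup.zpowers y) ⟨g, hg⟩)

include hye in
theorem eN_le_centralizer {g : G} (hg : g ∈ Subgroup.zpowers y) :
    eN L ≤ Nat.card (Subgroup.centralizer ({g} : Set G)) :=
  Nat.le_of_dvd Nat.card_pos (eN_dvd_centralizer hye hg)

include h D hy hye in
theorem sum_centralizer_le :
    ∑ g ∈ Finset.univ.erase (1 : Subgroup.zpowers y),
      (Nat.card (Subgroup.centralizer ({(g : G)} : Set G)) : ℤ) ≤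
    ((eN L : ℤ) - 1) * (n + 1) + A.card * (n + 1) * ((eN L : ℤ) - n - 1) +
      qN L * u * ((eN L : ℤ) - u) := by
  obtain ⟨ψ, hψ⟩ : Y.Nonempty := Finset.card_pos.1 (by
    rw [D.cardY]; have := D.two_le_q; omega)
  have hA : ∀ χ : IrrCharacter G, ∃ m : ℕ, χ ∈ A → m ≤ n + 1 ∧
      ∑ g ∈ Finset.univ.erase (1 : Subgroup.zpowers y),
        (χ : G → ℂ) g * conj ((χ : G → ℂ) g) = (eN L : ℂ) * m - ((n + 1 : ℕ) : ℂ) ^ 2 := by
    intro χ
    by_cases hχ : χ ∈ A
    · obtain ⟨m, hm⟩ := sum_sq_bound h D hy hye (Or.inl hχ) (fixA h D hy hye hχ)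
      exact ⟨m, fun _ => hm⟩
    · exact ⟨0, fun h' => absurd h' hχ⟩
  choose m hm using hA
  obtain ⟨mY, hmY, hsY⟩ := sum_sq_bound h D hy hye (Or.inr hψ) (fixY h D hy hye hψ)
  have hC : ((∑ g ∈ Finset.univ.erase (1 : Subgroup.zpowers y),
      (Nat.card (Subgroup.centralizer ({(g : G)} : Set G)) : ℤ) : ℤ) : ℂ) =
      (((eN L : ℤ) - 1) * (n + 1) + ∑ χ ∈ A, ((eN L : ℤ) * m χ - ((n : ℤ) + 1) ^ 2) +
        qN L * ((eN L : ℤ) * mY - (u : ℤ) ^ 2) : ℤ) := by
    push_cast
    rw [Finset.sum_congr rfl fun g hg =>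
      card_centralizer h D hy hye hψ g.2 (coe_ne_one (Finset.ne_of_mem_erase hg))]
    rw [Finset.sum_add_distrib, Finset.sum_add_distrib, Finset.sum_const,
      Finset.card_erase_of_mem (Finset.mem_univ _), Finset.card_univ, ← Nat.card_eq_fintype_card,
      card_zpowers_gen hye, Finset.sum_comm, Finset.sum_congr rfl fun χ hχ => (hm χ hχ).2,
      ← Finset.mul_sum, hsY, nsmul_eq_mul, Nat.cast_sub (one_le_eN L)]
    push_cast
    ring
  rw [Int.cast_injective hC]
  have h1 : ∑ χ ∈ A, ((eN L : ℤ) * m χ - ((n : ℤ) + 1) ^ 2) ≤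
      A.card * ((eN L : ℤ) * (n + 1) - ((n : ℤ) + 1) ^ 2) := by
    rw [← nsmul_eq_mul]
    refine Finset.sum_le_card_nsmul _ _ _ fun χ hχ => ?_
    have := (hm χ hχ).1
    have : (m χ : ℤ) ≤ n + 1 := by exact_mod_cast this
    nlinarith
  have h2 : (mY : ℤ) ≤ u := by exact_mod_cast hmY
  have h3 : (qN L : ℤ) * ((eN L : ℤ) * mY) ≤ qN L * ((eN L : ℤ) * u) :=
    mul_le_mul_of_nonneg_left (mul_le_mul_of_nonneg_left h2 (Nat.cast_nonneg _)) (Nat.cast_nonneg _)
  nlinarith

include h D hy hye in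
/-- `n + 1` divides `p - 1`. -/
theorem succ_dvd : n + 1 ∣ eN L * qN L := by
  have he := two_le_eN L h.perf
  have hy1 : y ≠ 1 := fun e => by rw [e, orderOf_one] at hye; omega
  haveI : IsCyclic (Subgroup.zpowers y) := inferInstance
  have h1 := card_conj_mul h D hy hye (Subgroup.mem_zpowers y) hy1
  rw [card_conj_mul_centralizer (Subgroup.zpowers y) (Subgroup.mem_zpowers y)] at h1
  have h2 : (n + 1) * eN L ∣ Nat.card G := h1 ▸ Subgroup.card_subgroup_dvd_card _
  rw [h.hG, mul_comm p, mul_assoc, mul_comm (n + 1) (eN L)] at h2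
  have h3 : n + 1 ∣ p * (n * p + 1) :=
    Nat.dvd_of_mul_dvd_mul_left (one_le_eN L) h2
  have hlt : n + 1 < p := by
    have := h.hn
    have := h.three_le
    have h5 := D.two_le_q
    have := eN_mul_qN' L
    have : 4 ≤ eN L * qN L := Nat.mul_le_mul he h5
    omega
  have hco : (n + 1).Coprime p := by
    rw [Nat.coprime_comm, hp.out.coprime_iff_not_dvd]
    exact fun hd => absurd (Nat.le_of_dvd (Nat.succ_pos _) hd) (not_le.2 hlt)
  have h4 := hco.dvd_of_dvd_mul_left h3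
  rw [eN_mul_qN' L]
  have h6 : n * p + 1 + (p - 1) = (n + 1) * p := by
    rw [add_mul, one_mul]; omega
  exact (Nat.dvd_add_right h4).1 (h6 ▸ dvd_mul_right _ _)

include h D hy hye in
theorem u_eq : (u = 0 ∧ n + 1 ∣ qN L) ∨ (u = 1 ∧ qN L = n + 1) := by
  have h1 := succ_dvd h D hy hye
  rcases D.caseu with hu | hu
  · refine Or.inl ⟨hu, (Nat.Coprime.dvd_of_dvd_mul_left ?_ h1)⟩
    rw [← D.countA, hu, add_zero, Nat.coprime_comm]
    simp
  · refine Or.inr ?_
    have hq : 0 < qN L := qN_pos L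
    have h2 : u ∣ eN L := by
      rw [← hu] at h1
      exact Nat.dvd_of_mul_dvd_mul_right hq h1
    have h3 : u ∣ A.card * (n + 1) + u := by
      rw [← hu]
      exact dvd_add (dvd_mul_of_dvd_right (dvd_mul_right _ _) _) dvd_rfl
    have : u = 1 := Nat.dvd_one.1 ((Nat.dvd_add_right h3).1 (D.countA ▸ h2))
    subst this
    exact ⟨rfl, by rwa [one_mul] at hu⟩

end CfsgLib.BrauerReynolds
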