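import Cfsg.Agent.Lib.BrauerReynolds.Setup
import Cfsg.Agent.Lib.BrauerReynolds.Arith

/-!
# The degrees in the principal block
-/

set_option autoImplicit false
set_option linter.style.haveILetI false
set_option linter.unusedSectionVars false

noncomputable section

namespace CfsgLib.BrauerReynolds

open Cfsg CfsgLib.Characters CfsgLib.CyclicDefect
open scoped ComplexConjugate Classical

universe u

variable {p : ℕ} [hp : Fact p.Prime] {G : Type u} [Group G] [Fintype G]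

/-- The sign of the exceptional characters. -/
def sgn (u : ℕ) : ℤ := if u = 0 then 1 else -1

/-- The degrees and values in the principal block. -/
structure Deg (L : Loc p G) (n u : ℕ) (A B Y R : Finset (IrrCharacter G)) : Prop where
  two_le_q : 2 ≤ qN L
  cardY : Y.card = qN L
  degA : ∀ χ ∈ A, (χ : G → ℂ) 1 = (n : ℂ) * p + 1
  degB : ∀ χ ∈ B, (χ : G → ℂ) 1 = (p : ℂ) - 1
  degY : ∀ χ ∈ Y, (χ : G → ℂ) 1 = (sgn u : ℂ) * eN L + u * p
  valA : ∀ χ ∈ A, ∀ z ∈ (L.P : Subgroup G), z ≠ 1 → (χ : G → ℂ) z = 1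
  valB : ∀ χ ∈ B, ∀ z ∈ (L.P : Subgroup G), z ≠ 1 → (χ : G → ℂ) z = -1
  sumY : ∀ z ∈ (L.P : Subgroup G), z ≠ 1 → ∑ ψ ∈ Y, (ψ : G → ℂ) z = -(sgn u : ℂ)
  regY : ∀ χ ∈ Y, ∀ ψ ∈ Y, ∀ g : G, ¬ p ∣ orderOf g → (χ : G → ℂ) g = (ψ : G → ℂ) g
  rel : ∀ ψ ∈ Y, ∀ g : G, ¬ p ∣ orderOf g → (sgn u : ℂ) * (ψ : G → ℂ) g =
    1 + ∑ χ ∈ A, (χ : G → ℂ) g - ∑ χ ∈ B, (χ : G → ℂ) g
  outside : ∀ χ ∈ R, (∀ z ∈ (L.P : Subgroup G), z ≠ 1 → (χ : G → ℂ) z = 0) ∧
    ∃ k : ℕ, 0 < k ∧ (χ : G → ℂ) 1 = (p : ℂ) * k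
  split : ∀ f : IrrCharacter G → ℂ, ∑ χ, f χ = f (principalIrr G) + ∑ χ ∈ A, f χ +
    ∑ χ ∈ B, f χ + ∑ χ ∈ Y, f χ + ∑ χ ∈ R, f χ
  caseu : u = 0 ∨ u * qN L = n + 1
  countA : A.card * (n + 1) + u + 1 = eN L
  countB : B.card = A.card * n + u

theorem sq_le_card (χ : IrrCharacter G) :
    (charDegree (χ : G → ℂ) : ℤ) ^ 2 ≤ (Nat.card G : ℤ) := by
  rw [← sum_deg_sq]
  exact Finset.single_le_sum (f := fun χ : IrrCharacter G => (charDegree (χ : G → ℂ) : ℤ) ^ 2)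
    (fun _ _ => sq_nonneg _) (Finset.mem_univ χ)

/-- Degrees congruent to `±1`. -/
theorem deg_sign {L : Loc p G} {n : ℕ} (h : Hyp L n) {χ : IrrCharacter G} {s : ℤ}
    (hne : χ ≠ principalIrr G) (hs : s = 1 ∨ s = -1)
    (hK : ∃ K : ℤ, (charDegree (χ : G → ℂ) : ℤ) = s + p * K) :
    (s = 1 → (χ : G → ℂ) 1 = (n : ℂ) * p + 1) ∧ (s = -1 → (χ : G → ℂ) 1 = (p : ℂ) - 1) := by
  haveI : Fintype L.Dual := @Fintype.ofFinite _ L.finite_dual
  obtain ⟨K, hK⟩ := hK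
  have hG : Nat.card G = p * Nat.card L.O * eN L * (n * p + 1) := by
    rw [h.card_O, mul_one]; exact h.hG
  have hp3 : (3 : ℤ) ≤ p := by exact_mod_cast h.three_le
  have hs' : ¬ (p : ℤ) ∣ s := by
    intro hd
    have := Int.le_of_dvd one_pos (by rcases hs with rfl | rfl <;> simpa using hd)
    omega
  obtain ⟨m, hm, hdm⟩ := deg_dvd_part L hG χ hK hs'
  rw [h.card_O, Nat.cast_one, one_mul] at hdm
  have hpe : (p : ℤ) - 1 = (eN L : ℤ) * qN L := by
    rw [← Nat.cast_mul, eN_mul_qN' L, Nat.cast_sub hp.out.one_le, Nat.cast_one]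
  have he : (1 : ℤ) ≤ eN L := by exact_mod_cast one_le_eN L
  have hq : (1 : ℤ) ≤ qN L := by exact_mod_cast qN_pos L
  have hn : 2 * (n : ℤ) < p + 3 := by exact_mod_cast h.hn
  have hd1 : (charDegree (χ : G → ℂ) : ℤ) ≠ 1 := fun e =>
    hne (deg_one_iff h.perf χ (by exact_mod_cast e))
  have hd0 : (0 : ℤ) < charDegree (χ : G → ℂ) := by exact_mod_cast deg_pos χ
  constructor <;> intro e
  · subst e
    have hK1 : 1 ≤ K := by
      by_contra hc
      rcases (show K = 0 ∨ K ≤ -1 by omega) with h0 | h0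
      · subst h0; simp [hK] at hd1
      · nlinarith
    have := deg_plus hp3 hpe he hq hn hK1 hm (by rw [← hdm, hK]; ring)
    rw [deg_eq, ← Int.cast_natCast, hK, this]
    push_cast
    ring
  · subst e
    have hK1 : 1 ≤ K := by nlinarith
    have := deg_minus hp3 hpe he hq hn (by positivity) hK1 hm (by rw [← hdm, hK]; ring) (by
      have h2 := sq_le_card χ
      rw [h.hG, hK] at h2
      push_cast at h2
      nlinarith)
    rw [deg_eq, ← Int.cast_natCast, hK, this]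
    push_cast
    ring

/-- The two cases. -/
theorem exists_deg {L : Loc p G} {n : ℕ} (h : Hyp L n) :
    ∃ (u : ℕ) (A B Y R : Finset (IrrCharacter G)), Deg L n u A B Y R := by
  haveI : Fintype L.Dual := @Fintype.ofFinite _ L.finite_dual
  have hp3 := h.three_le
  obtain ⟨εY, X, Y, s, hB⟩ := exists_block L (by omega) h.perf
  have hO := h.card_O
  set o := principalIrr G with ho
  have hval : ∀ χ, (χ ∈ X ∨ (qN L = 1 ∧ χ ∈ Y)) → ∀ z ∈ (L.P : Subgroup G), z ≠ 1 →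
      (χ : G → ℂ) z = (s χ : ℂ) := fun χ hχ z hz hz1 => by
    have := (hB.sign χ hχ).2.2 z hz hz1 1 (one_mem _) (by rw [orderOf_one]; exact hp.out.not_dvd_one)
    rwa [mul_one] at this
  have hdeg : ∀ χ, (χ ∈ X ∨ (qN L = 1 ∧ χ ∈ Y)) → χ ≠ o →
      (s χ = 1 → (χ : G → ℂ) 1 = (n : ℂ) * p + 1) ∧ (s χ = -1 → (χ : G → ℂ) 1 = (p : ℂ) - 1) :=
    fun χ hχ hne => deg_sign h hne (hB.sign χ hχ).1 (hB.sign χ hχ).2.1
  have hz0 : L.x ≠ 1 := fun e => by
    have := L.hx; rw [e, orderOf_one] at this; exact hp.out.one_lt.ne this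
  have horth : ∀ z ∈ (L.P : Subgroup G), z ≠ 1 →
      ∑ χ ∈ X ∪ Y, (χ : G → ℂ) 1 * (χ : G → ℂ) z = 0 := by
    intro z hz hz1
    have h0 := sum_degree_mul_irr z
    rw [if_neg hz1] at h0
    rw [← h0]
    refine Finset.sum_subset (Finset.subset_univ _) fun χ _ hχ => ?_
    rw [Finset.mem_union, not_or] at hχ
    rw [(hB.outside hO χ hχ.1 hχ.2).1 z hz hz1, mul_zero]
  have hq2 : 2 ≤ qN L := by
    by_contra hlt
    have hq1 : qN L = 1 := by have := qN_pos L; omega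
    have hmem : ∀ χ ∈ X ∪ Y, χ ∈ X ∨ (qN L = 1 ∧ χ ∈ Y) := fun χ hχ =>
      (Finset.mem_union.1 hχ).imp id fun hY => ⟨hq1, hY⟩
    obtain ⟨χ, hχ, hsχ⟩ : ∃ χ ∈ X ∪ Y, s χ = -1 := by
      by_contra hall
      have hs1 : ∀ χ ∈ X ∪ Y, s χ = 1 := fun χ hχ =>
        (hB.sign χ (hmem χ hχ)).1.resolve_right fun e => hall ⟨χ, hχ, e⟩
      have h0 := horth L.x L.hxP hz0
      rw [Finset.sum_congr rfl fun (χ : IrrCharacter G) hχ => show (χ : G → ℂ) 1 * (χ : G → ℂ) L.x =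
        ((charDegree (χ : G → ℂ) : ℕ) : ℂ) by
          rw [hval χ (hmem χ hχ) _ L.hxP hz0, hs1 χ hχ, deg_eq, Int.cast_one, mul_one],
        ← Nat.cast_sum, Nat.cast_eq_zero] at h0
      exact (deg_pos o).ne' (Finset.sum_eq_zero_iff.1 h0 o hB.one_mem')
    have hne : χ ≠ o := fun e => by rw [e, hB.s_one] at hsχ; omega
    have he : Even (eN L) := by
      have h1 := eN_mul_qN' L
      rw [hq1, mul_one] at h1
      rw [h1, Nat.even_iff]
      rcases hp.out.eq_two_or_odd with h2 | h2 <;> omega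
    have := h.even_q_of_minus (irr_isCharacter χ) ((hdeg χ (hmem χ hχ) hne).2 hsχ)
      (fun z hz hz1 => by rw [hval χ (hmem χ hχ) z hz hz1, hsχ, Int.cast_neg, Int.cast_one]) he
    rw [hq1, Nat.even_iff] at this
    omega
  have hoX : o ∈ X := hB.one_mem hq2
  set A := (X.erase o).filter fun χ => s χ = 1 with hA
  set B := (X.erase o).filter fun χ => ¬ s χ = 1 with hBdef
  set R := Finset.univ \ (X ∪ Y) with hR
  have hsB : ∀ χ ∈ B, s χ = -1 := fun χ hχ =>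
    (hB.sign χ (Or.inl (Finset.mem_of_mem_erase (Finset.mem_filter.1 hχ).1))).1.resolve_left
      (Finset.mem_filter.1 hχ).2
  have hdA : ∀ χ ∈ A, (χ : G → ℂ) 1 = (n : ℂ) * p + 1 := fun χ hχ => by
    obtain ⟨h1, h2⟩ := Finset.mem_filter.1 hχ
    exact (hdeg χ (Or.inl (Finset.mem_of_mem_erase h1)) (Finset.ne_of_mem_erase h1)).1 h2
  have hdB : ∀ χ ∈ B, (χ : G → ℂ) 1 = (p : ℂ) - 1 := fun χ hχ => by
    have h1 := (Finset.mem_filter.1 hχ).1
    exact (hdeg χ (Or.inl (Finset.mem_of_mem_erase h1)) (Finset.ne_of_mem_erase h1)).2 (hsB χ hχ)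
  have hvA : ∀ χ ∈ A, ∀ z ∈ (L.P : Subgroup G), z ≠ 1 → (χ : G → ℂ) z = 1 := fun χ hχ z hz hz1 => by
    obtain ⟨h1, h2⟩ := Finset.mem_filter.1 hχ
    rw [hval χ (Or.inl (Finset.mem_of_mem_erase h1)) z hz hz1, h2, Int.cast_one]
  have hvB : ∀ χ ∈ B, ∀ z ∈ (L.P : Subgroup G), z ≠ 1 → (χ : G → ℂ) z = -1 := fun χ hχ z hz hz1 => by
    rw [hval χ (Or.inl (Finset.mem_of_mem_erase (Finset.mem_filter.1 hχ).1)) z hz hz1, hsB χ hχ,
      Int.cast_neg, Int.cast_one]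
  have hsum : ∀ f : IrrCharacter G → ℂ, ∑ χ ∈ X, f χ = f o + ∑ χ ∈ A, f χ + ∑ χ ∈ B, f χ := by
    intro f
    rw [← Finset.add_sum_erase X f hoX, hA, hBdef, add_assoc,
      Finset.sum_filter_add_sum_filter_not]
  have hcard : A.card + B.card + 1 = eN L := by
    rw [hA, hBdef, Finset.card_filter_add_card_filter_not, Finset.card_erase_add_one hoX, hB.cardX]
  have hrel : ∀ ψ ∈ Y, ∀ g : G, ¬ p ∣ orderOf g → (εY : ℂ) * (ψ : G → ℂ) g =
      1 + ∑ χ ∈ A, (χ : G → ℂ) g - ∑ χ ∈ B, (χ : G → ℂ) g := by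
    intro ψ hψ g hg
    rw [hB.rel ψ hψ g hg, hsum, hB.s_one, Int.cast_one, one_mul, ho, principalIrr_apply,
      sub_eq_add_neg, ← Finset.sum_neg_distrib]
    refine congrArg₂ _ (congrArg₂ _ rfl (Finset.sum_congr rfl fun χ hχ => ?_))
      (Finset.sum_congr rfl fun χ hχ => ?_)
    · rw [(Finset.mem_filter.1 hχ).2, Int.cast_one, one_mul]
    · rw [hsB χ hχ, Int.cast_neg, Int.cast_one, neg_one_mul]
  obtain ⟨ψ₁, hψ₁⟩ : Y.Nonempty := Finset.card_pos.1 (by rw [hB.cardY]; omega)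
  set x := charDegree (ψ₁ : G → ℂ) with hx
  have hdY : ∀ χ ∈ Y, (χ : G → ℂ) 1 = (x : ℂ) := fun χ hχ => by
    rw [hB.regY χ hχ ψ₁ hψ₁ 1 (by rw [orderOf_one]; exact hp.out.not_dvd_one), deg_eq]
  have hx1 : (εY : ℤ) * x = 1 + (A.card : ℤ) * (n * p + 1) - (B.card : ℤ) * (p - 1) := by
    have h0 := hrel ψ₁ hψ₁ 1 (by rw [orderOf_one]; exact hp.out.not_dvd_one)
    rw [Finset.sum_congr rfl hdA, Finset.sum_congr rfl hdB, hdY ψ₁ hψ₁, Finset.sum_const,
      Finset.sum_const, nsmul_eq_mul, nsmul_eq_mul] at h0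
    apply Int.cast_injective (α := ℂ)
    push_cast
    exact h0
  have hx2 : 2 * (x : ℤ) ^ 2 ≤ (Nat.card G : ℤ) := by
    calc 2 * (x : ℤ) ^ 2 ≤ ∑ χ ∈ Y, (charDegree (χ : G → ℂ) : ℤ) ^ 2 := by
          rw [Finset.sum_congr rfl fun (χ : IrrCharacter G) hχ => show (charDegree (χ : G → ℂ) : ℤ) ^ 2 = (x : ℤ) ^ 2 by
            have := hdY χ hχ
            rw [deg_eq, Nat.cast_inj] at this
            rw [this],
            Finset.sum_const, nsmul_eq_mul, hB.cardY]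
          exact mul_le_mul_of_nonneg_right (by exact_mod_cast hq2) (sq_nonneg _)
      _ ≤ _ := by
        rw [← sum_deg_sq]
        exact Finset.sum_le_sum_of_subset_of_nonneg (Finset.subset_univ _) fun _ _ _ => sq_nonneg _
  obtain ⟨K, hK⟩ := hB.degY ψ₁ hψ₁
  have hpZ : (3 : ℤ) ≤ p := by exact_mod_cast hp3
  have hpr : _root_.Prime (p : ℤ) := Nat.prime_iff_prime_int.1 hp.out
  have hpe : (p : ℤ) - 1 = (eN L : ℤ) * qN L := by
    rw [← Nat.cast_mul, eN_mul_qN' L, Nat.cast_sub hp.out.one_le, Nat.cast_one]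
  have he : (1 : ℤ) ≤ eN L := by exact_mod_cast one_le_eN L
  have hqZ : (2 : ℤ) ≤ qN L := by exact_mod_cast hq2
  have hnZ : 2 * (n : ℤ) < p + 3 := by exact_mod_cast h.hn
  have hep : (eN L : ℤ) < p := by exact_mod_cast eN_lt L
  have hx0 : (0 : ℤ) < x := by exact_mod_cast deg_pos ψ₁
  have hr : ¬ (p : ℤ) ∣ εY * eN L := by
    intro hd
    have : (p : ℤ) ∣ (eN L : ℤ) := by
      rcases hB.εY_sign with e | e <;> simpa [e] using hd
    exact absurd (Int.le_of_dvd (by omega) this) (by omega)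
  obtain ⟨m, hm, hdm⟩ := deg_dvd_part L (n := n) (by rw [hO, mul_one]; exact h.hG) ψ₁ hK hr
  rw [hO, Nat.cast_one, one_mul] at hdm
  rw [h.hG] at hx2
  push_cast at hx2
  rw [hx, hK] at hx2
  have hAB : (A.card : ℤ) + B.card + 1 = eN L := by exact_mod_cast hcard
  obtain ⟨u, hsgn, hcase, hu, hcountB⟩ : ∃ u : ℕ, εY = sgn u ∧ (u = 0 ∨ u * qN L = n + 1) ∧
      (x : ℤ) = sgn u * eN L + u * p ∧ (B.card : ℤ) = A.card * n + u := by
    rcases hB.εY_sign with e | e <;> subst e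
    · have hK0 : 0 ≤ K := by
        by_contra hc
        have : K ≤ -1 := by omega
        rw [hx, hK] at hx0
        nlinarith
      have hu0 := exc_plus hpZ hpr hpe he hqZ hnZ (by positivity) hK0 hm
        (by rw [← hdm, hK]; ring) (by nlinarith)
      refine ⟨0, by simp [sgn], Or.inl rfl, by rw [hx, hK, hu0]; simp [sgn], ?_⟩
      rw [hx, hK, hu0] at hx1
      refine mul_left_cancel₀ (show (p : ℤ) ≠ 0 by omega) ?_
      push_cast
      linear_combination hx1 + hAB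
    · have hK1 : 1 ≤ K := by
        by_contra hc
        have : K ≤ 0 := by omega
        rw [hx, hK] at hx0
        nlinarith
      have hu1 := exc_minus hpZ hpr hpe he hqZ hnZ (by positivity) hK1 hm
        (by rw [← hdm, hK]; ring)
      obtain ⟨u, rfl⟩ : ∃ u : ℕ, (u : ℤ) = K := ⟨K.toNat, Int.toNat_of_nonneg (by omega)⟩
      have hu0 : u ≠ 0 := by omega
      refine ⟨u, by simp [sgn, hu0], Or.inr (by exact_mod_cast hu1.symm),
        by rw [hx, hK]; simp [sgn, hu0]; ring, ?_⟩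
      rw [hx, hK] at hx1
      refine mul_left_cancel₀ (show (p : ℤ) ≠ 0 by omega) ?_
      linear_combination hx1 + hAB
  have hBn : B.card = A.card * n + u := by exact_mod_cast hcountB
  refine ⟨u, A, B, Y, R, hq2, hB.cardY, hdA, hdB, fun χ hχ => ?_, hvA, hvB, fun z hz hz1 => ?_,
    hB.regY, fun ψ hψ g hg => hsgn ▸ hrel ψ hψ g hg, fun χ hχ => ?_, fun f => ?_, hcase, ?_, hBn⟩
  · rw [hdY χ hχ, ← Int.cast_natCast, hu]
    push_cast
    ring
  · have h0 := horth z hz hz1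
    rw [Finset.sum_union hB.disj, hsum,
      Finset.sum_congr rfl fun (χ : IrrCharacter G) hχ => show (χ : G → ℂ) 1 * (χ : G → ℂ) z = (χ : G → ℂ) 1 by
        rw [hvA χ hχ z hz hz1, mul_one],
      Finset.sum_congr rfl fun (χ : IrrCharacter G) hχ => show (χ : G → ℂ) 1 * (χ : G → ℂ) z = -(χ : G → ℂ) 1 by
        rw [hvB χ hχ z hz hz1, mul_neg_one],
      Finset.sum_congr rfl fun (χ : IrrCharacter G) hχ => show (χ : G → ℂ) 1 * (χ : G → ℂ) z = (x : ℂ) * (χ : G → ℂ) z by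
        rw [hdY χ hχ],
      ← Finset.mul_sum, ho, principalIrr_apply, principalIrr_apply, one_mul,
      Finset.sum_neg_distrib] at h0
    have h1 := hrel ψ₁ hψ₁ 1 (by rw [orderOf_one]; exact hp.out.not_dvd_one)
    rw [hdY ψ₁ hψ₁] at h1
    rw [← hsgn]
    refine mul_left_cancel₀ (show (x : ℂ) ≠ 0 from Nat.cast_ne_zero.2 (deg_pos ψ₁).ne') ?_
    linear_combination h0 + h1
  · rw [hR, Finset.mem_sdiff, Finset.mem_union, not_or] at hχ
    obtain ⟨h0, k, hk⟩ := hB.outside hO χ hχ.2.1 hχ.2.2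
    refine ⟨h0, k, Nat.pos_of_ne_zero fun e => ?_, by rw [deg_eq, hk, Nat.cast_mul]⟩
    rw [e, mul_zero] at hk
    exact (deg_pos χ).ne' hk
  · rw [← Finset.sum_sdiff (Finset.subset_univ (X ∪ Y)), Finset.sum_union hB.disj, hsum]
    ring
  · rw [hBn] at hcard
    rw [← hcard]
    ring

end CfsgLib.BrauerReynolds
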