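import Cfsg.Agent.Lib.BrauerReynolds.Half

/-!
# Characters of degree `n p + 1` with `q > 2` do not occur
-/

set_option autoImplicit false
set_option linter.style.haveILetI false
set_option linter.unusedSectionVars false

noncomputable section

namespace CfsgLib.BrauerReynolds

open Cfsg CfsgLib.Characters CfsgLib.CyclicDefect
open scoped ComplexConjugate Classical

universe u

theorem not_conj_of_order {G : Type u} [Group G] {g t : G} (h : orderOf g ≠ orderOf t) :
    ¬ IsConj g t := fun hc => by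
  obtain ⟨a, ha⟩ := isConj_iff.1 hc
  exact h (((MulAut.conj a).orderOf_eq g).symm.trans (congrArg orderOf ha))

variable {p : ℕ} [hp : Fact p.Prime] {G : Type u} [Group G] [Fintype G]
variable {L : Loc p G} {n : ℕ} {A B Y R : Finset (IrrCharacter G)}
variable (h : Hyp L n) (D : Deg L n 1 A B Y R) {y : G} (hy : y ∈ L.N) (hye : orderOf y = eN L)
variable {t : G} (ht : t ∈ Subgroup.zpowers y) (ht2 : orderOf t = 2)
  (htu : ∀ k ∈ Subgroup.zpowers y, orderOf k = 2 → k = t)

include h D in
theorem q_dvd_deg : qN L ∣ n * p + 1 := by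
  have h1 : n * p + 1 + qN L * eN L = qN L * p := by
    rw [mul_comm (qN L) (eN L), eN_mul_qN' L, q_eq D, add_mul, one_mul]
    have := hp.out.one_le
    omega
  exact (Nat.dvd_add_left (dvd_mul_right _ _)).1 (h1 ▸ dvd_mul_right _ _)

include h D hy hye ht ht2 htu in
/-- An element of the centraliser of `t` gives a congruence. -/
theorem congr_of_centralizes (hq : 3 ≤ qN L) {v : G}
    (hv : v ∈ Subgroup.centralizer ({t} : Set G)) :
    ∃ (P M : ℕ), qN L ∣ P ∧
      (∀ j, (∀ i, 0 < i → i < orderOf v → i ≠ j → ¬ IsConj (v ^ i) t) →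
        0 < j → j < orderOf v →
        ((IsConj (v ^ j) t → ∃ T : ℕ, qN L ∣ T ∧
            (P : ℤ) + T - ((orderOf v : ℤ) - 2) = orderOf v * M) ∧
         (¬ IsConj (v ^ j) t → (P : ℤ) - ((orderOf v : ℤ) - 1) = orderOf v * M))) := by
  set Ap := A.filter (fun χ : IrrCharacter G => (χ : G → ℂ) t = (qN L : ℂ)) with hAp
  set F : G → ℂ := fun g => ∑ χ ∈ Ap, (χ : G → ℂ) g with hF
  have hFc : IsCharacter G F := by
    have h1 := isCharacter_sum Ap (f := fun χ : IrrCharacter G => (χ : G → ℂ))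
      fun χ _ => irr_isCharacter χ
    convert h1 using 1
    funext g
    simp [hF, Finset.sum_apply]
  obtain ⟨M, hM⟩ := sum_pow_nat hFc v
  refine ⟨Ap.card * (n * p + 1), M, dvd_mul_of_dvd_right (q_dvd_deg h D) _, fun j hne hj0 hj => ?_⟩
  have hF1 : F 1 = ((Ap.card * (n * p + 1) : ℕ) : ℂ) := by
    rw [hF]
    simp only
    rw [Finset.sum_congr rfl fun χ hχ => D.degA χ (Finset.mem_filter.1 hχ).1, Finset.sum_const,
      nsmul_eq_mul]
    push_cast
    ring
  have hval : ∀ i, 0 < i → i < orderOf v → ¬ IsConj (v ^ i) t → F (v ^ i) = -1 := fun i hi0 hi hc =>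
    phi_plus h D hy hye ht ht2 htu (Or.inr hq) (Subgroup.pow_mem _ hv i)
      (pow_ne_one_of_lt_orderOf hi0.ne' hi) hc
  rw [← Finset.add_sum_erase _ _ (Finset.mem_range.2 (hj0.trans hj)), pow_zero, hF1,
    ← Finset.add_sum_erase _ _ (Finset.mem_erase.2 ⟨hj0.ne', Finset.mem_range.2 hj⟩),
    Finset.sum_congr rfl (fun i hi => by
      obtain ⟨hij, hi0, hi⟩ := by simpa [Finset.mem_erase] using hi
      exact hval i (Nat.pos_of_ne_zero hi0) hi (hne i (Nat.pos_of_ne_zero hi0) hi hij)),
    Finset.sum_const, Finset.card_erase_of_mem (Finset.mem_erase.2 ⟨hj0.ne', Finset.mem_range.2 hj⟩),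
    Finset.card_erase_of_mem (Finset.mem_range.2 (hj0.trans hj)), Finset.card_range, Nat.sub_sub,
    nsmul_eq_mul, Nat.cast_sub (by omega : 1 + 1 ≤ orderOf v)] at hM
  refine ⟨fun hc => ⟨Ap.card * qN L, dvd_mul_left _ _, ?_⟩, fun hc => ?_⟩
  · have hFt : F (v ^ j) = ((Ap.card * qN L : ℕ) : ℂ) := by
      rw [hF]
      simp only
      rw [Finset.sum_congr rfl fun χ hχ =>
        (classFunction_eq_of_isConj (irr_isClassFunction χ) hc).trans (Finset.mem_filter.1 hχ).2,
        Finset.sum_const, nsmul_eq_mul, Nat.cast_mul]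
    rw [hFt] at hM
    apply Int.cast_injective (α := ℂ)
    push_cast at hM ⊢
    linear_combination hM
  · rw [hval j hj0 hj hc] at hM
    apply Int.cast_injective (α := ℂ)
    push_cast at hM ⊢
    linear_combination hM

include h D hy hye ht ht2 htu in
theorem no_odd_prime (hq : 3 ≤ qN L) {l : ℕ} (hl : l.Prime) (hl2 : l ≠ 2) (hld : l ∣ qN L) :
    False := by
  haveI := Fact.mk hl
  obtain ⟨⟨v, hv⟩, hvl⟩ := exists_prime_orderOf_dvd_card'
    (G := Subgroup.centralizer ({t} : Set G)) l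
    (by rw [card_centralizer_t h D hy hye ht ht2 htu]; exact dvd_mul_of_dvd_right hld _)
  rw [Subgroup.orderOf_mk] at hvl
  obtain ⟨P, M, hP, hM⟩ := congr_of_centralizes h D hy hye ht ht2 htu hq hv
  have hn : ∀ i, 0 < i → i < orderOf v → ¬ IsConj (v ^ i) t := fun i hi0 hi => by
    refine not_conj_of_order ?_
    rw [Nat.Coprime.orderOf_pow, hvl, ht2]
    · exact hl2
    · rw [hvl]
      exact hl.coprime_iff_not_dvd.2 fun hd => absurd (Nat.le_of_dvd hi0 hd) (by omega)
  have := (hM 1 (fun i hi0 hi _ => hn i hi0 hi) one_pos (by rw [hvl]; exact hl.one_lt)).2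
    (hn 1 one_pos (by rw [hvl]; exact hl.one_lt))
  rw [hvl] at this
  have h1 : (l : ℤ) ∣ (P : ℤ) := Int.natCast_dvd_natCast.2 (hld.trans hP)
  have h2 : (l : ℤ) ∣ 1 := by
    have : (1 : ℤ) = (l : ℤ) * M + l - P := by linarith
    rw [this]
    exact dvd_sub (dvd_add (dvd_mul_right _ _) dvd_rfl) h1
  have := Int.le_of_dvd one_pos h2
  have := hl.two_le
  omega

include h D hy hye ht ht2 htu in
theorem involution_conj (hq : 3 ≤ qN L) {v : G}
    (hv : v ∈ Subgroup.centralizer ({t} : Set G)) (hv2 : orderOf v = 2) : IsConj v t := by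
  by_contra hc
  obtain ⟨P, M, hP, hM⟩ := congr_of_centralizes h D hy hye ht ht2 htu hq hv
  have := (hM 1 (fun i hi0 hi hi1 => absurd (by omega : i = 1) hi1) one_pos (by omega)).2
    (by rwa [pow_one])
  rw [hv2] at this
  have h1 : 2 ∣ P := ((even_eN h D).2.two_dvd).trans hP
  omega

include h D hy hye ht ht2 htu in
theorem not_four (hq : 3 ≤ qN L) (h4 : 4 ∣ qN L) {v : G}
    (hv : v ∈ Subgroup.centralizer ({t} : Set G)) (hv4 : orderOf v = 4) : False := by
  obtain ⟨P, M, hP, hM⟩ := congr_of_centralizes h D hy hye ht ht2 htu hq hv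
  have h2 : orderOf (v ^ 2) = 2 := by rw [orderOf_pow' v two_ne_zero, hv4]; rfl
  have hc := involution_conj h D hy hye ht ht2 htu hq (Subgroup.pow_mem _ hv 2) h2
  obtain ⟨T, hT, heq⟩ := (hM 2 (fun i hi0 hi hi2 => by
    refine not_conj_of_order ?_
    rw [hv4] at hi
    rw [orderOf_pow' v hi0.ne', hv4, ht2]
    interval_cases i
    · decide
    · exact absurd rfl hi2
    · decide) two_pos (by omega)).1 hc
  rw [hv4] at heq
  have h1 : 4 ∣ P := h4.trans hP
  have h3 : 4 ∣ T := h4.trans hT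
  omega

include h D hy hye ht ht2 htu in
theorem sq_eq_one (hq : 3 ≤ qN L) (h4 : 4 ∣ qN L) {v : G}
    (hv : v ∈ Subgroup.centralizer ({t} : Set G)) {k : ℕ} (hk : v ^ 2 ^ k = 1) : v ^ 2 = 1 := by
  obtain ⟨j, -, hj⟩ := (Nat.dvd_prime_pow Nat.prime_two).1 (orderOf_dvd_of_pow_eq_one hk)
  by_contra hne
  have hj2 : 2 ≤ j := by
    by_contra hlt
    refine hne (orderOf_dvd_iff_pow_eq_one.1 ?_)
    rw [hj]
    exact (pow_dvd_pow 2 (by omega : j ≤ 1)).trans (by norm_num)
  refine not_four h D hy hye ht ht2 htu hq h4 (Subgroup.pow_mem _ hv (2 ^ (j - 2))) ?_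
  rw [orderOf_pow' v (pow_ne_zero _ two_ne_zero), hj,
    Nat.gcd_eq_right (pow_dvd_pow 2 (by omega)), Nat.pow_div (by omega) two_pos,
    show j - (j - 2) = 2 by omega]
  rfl

include h D hy hye ht ht2 htu in
theorem no_skew (hA : A.card ≠ 0) (hq : 3 ≤ qN L) : False := by
  obtain ⟨he2, hq2⟩ := even_eN h D
  have hpow : ∀ l, l.Prime → l ∣ qN L → l = 2 := fun l hl hld => by
    by_contra hl2
    exact no_odd_prime h D hy hye ht ht2 htu hq hl hl2 hld
  have hqm := Nat.eq_prime_pow_of_unique_prime_dvd (qN_pos L).ne' (fun {d} hd hdd => hpow d hd hdd)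
  set m := (qN L).primeFactorsList.length with hm
  have h4 : 4 ∣ qN L := by
    have hm2 : 2 ≤ m := by
      by_contra hlt
      have : 2 ^ m ≤ 2 ^ 1 := Nat.pow_le_pow_right two_pos (by omega)
      omega
    rw [hqm]
    exact (show 4 ∣ 2 ^ 2 by norm_num).trans (pow_dvd_pow 2 hm2)
  have hee := e_eq' D
  obtain ⟨c, hc⟩ : ∃ c, eN L = 4 * c + 2 := by
    obtain ⟨d, hd⟩ := h4
    exact ⟨A.card * d, by rw [hee, hd]; ring⟩
  have hc0 : c ≠ 0 := by
    intro e
    rw [e] at hc
    have : A.card * qN L = 0 := by omega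
    rcases Nat.mul_eq_zero.1 this with h' | h' <;> omega
  set l := (2 * c + 1).minFac with hl
  have hlp : l.Prime := Nat.minFac_prime (by omega)
  have hld : l ∣ 2 * c + 1 := Nat.minFac_dvd _
  have hl2 : l ≠ 2 := fun e => by rw [e] at hld; omega
  have hle : l ∣ eN L := by
    rw [hc, show 4 * c + 2 = 2 * (2 * c + 1) by ring]
    exact dvd_mul_of_dvd_right hld 2
  haveI := Fact.mk hlp
  obtain ⟨⟨g, hg⟩, hgl⟩ := exists_prime_orderOf_dvd_card' (G := Subgroup.zpowers y) l
    (by rw [card_zpowers_gen hye]; exact hle)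
  rw [Subgroup.orderOf_mk] at hgl
  have hg1 : g ≠ 1 := fun e => hlp.one_lt.ne' (by rw [← hgl, e, orderOf_one])
  have hgt : g ≠ t := fun e => hl2 (by rw [← hgl, e, ht2])
  have hC := centralizer_other h D hy hye ht ht2 htu hg hg1 hgt
  have hCeq : Subgroup.centralizer ({g} : Set G) = Subgroup.zpowers y := by
    refine (Subgroup.eq_of_le_of_card_ge (fun k hk => Subgroup.mem_centralizer_singleton_iff.2 ?_)
      (by rw [hC, card_zpowers_gen hye])).symm
    haveI := IsCyclic.isMulCommutative (α := Subgroup.zpowers y)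
    exact congrArg Subtype.val (mul_comm' (⟨k, hk⟩ : Subgroup.zpowers y) ⟨g, hg⟩)
  set N := Subgroup.normalizer ((Subgroup.zpowers g : Subgroup G) : Set G) with hN
  have hNc : Nat.card N = qN L * eN L := by
    rw [hN, ← card_conj_mul_centralizer (Subgroup.zpowers y) hg,
      card_conj_mul h D hy hye hg hg1, q_eq D]
  have hNt : ∀ a ∈ N, a ∈ Subgroup.centralizer ({t} : Set G) := by
    intro a ha
    have h1 : a⁻¹ * g * a ∈ Subgroup.zpowers g := by
      have := mem_normalizer_zpowers_iff.1 (N.inv_mem ha)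
      rwa [inv_inv] at this
    have h2 : a * t * a⁻¹ ∈ Subgroup.centralizer ({g} : Set G) := by
      have hcm : Commute t (a⁻¹ * g * a) := by
        obtain ⟨i, hi⟩ := Subgroup.mem_zpowers_iff.1 h1
        rw [← hi]
        refine Commute.zpow_right ?_ i
        have := hCeq.symm ▸ ht
        exact Subgroup.mem_centralizer_singleton_iff.1 this
      refine Subgroup.mem_centralizer_singleton_iff.2 ?_
      calc a * t * a⁻¹ * g = a * (t * (a⁻¹ * g * a)) * a⁻¹ := by group
        _ = a * ((a⁻¹ * g * a) * t) * a⁻¹ := by rw [hcm.eq]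
        _ = g * (a * t * a⁻¹) := by group
    rw [hCeq] at h2
    have h3 := htu _ h2 (((MulAut.conj a).orderOf_eq t).trans ht2)
    exact Subgroup.mem_centralizer_singleton_iff.2 (mul_inv_eq_iff_eq_mul.1 h3)
  set φ : N →* MulAut (Subgroup.zpowers g) := (Subgroup.zpowers g).normalizerMonoidHom with hφ
  have hker : Nat.card φ.ker = eN L := by
    rw [← hC]
    have hmem : ∀ a : N, a ∈ φ.ker ↔ (a : G) ∈ Subgroup.centralizer ({g} : Set G) := by
      intro a
      rw [MonoidHom.mem_ker, Subgroup.mem_centralizer_singleton_iff]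
      constructor
      · intro e
        have := congrArg Subtype.val (DFunLike.congr_fun e ⟨g, Subgroup.mem_zpowers g⟩)
        exact mul_inv_eq_iff_eq_mul.1 this
      · intro e
        refine MulEquiv.ext fun k => Subtype.ext ?_
        obtain ⟨i, hi⟩ := Subgroup.mem_zpowers_iff.1 k.2
        show (a : G) * (k : G) * (a : G)⁻¹ = (k : G)
        rw [← hi, (Commute.zpow_right (show Commute (a : G) g from e) i).eq, mul_inv_cancel_right]
    exact Nat.card_congr
      { toFun := fun a => ⟨((a.1 : N) : G), (hmem a.1).1 a.2⟩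
        invFun := fun a => ⟨⟨a.1, by
          refine hN ▸ mem_normalizer_zpowers_iff.2 ?_
          rw [Subgroup.mem_centralizer_singleton_iff.1 a.2, mul_inv_cancel_right]
          exact Subgroup.mem_zpowers g⟩, (hmem _).2 a.2⟩
        left_inv := fun a => Subtype.ext (Subtype.ext rfl)
        right_inv := fun a => Subtype.ext rfl }
  have hrange : Nat.card φ.range = qN L := by
    have := φ.ker.card_mul_index
    rw [Subgroup.index_ker, hker, hNc, mul_comm (qN L)] at this
    exact Nat.eq_of_mul_eq_mul_left (one_le_eN L) this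
  haveI : IsCyclic (MulAut (Subgroup.zpowers g)) := by
    haveI : IsCyclic (ZMod (Nat.card (Subgroup.zpowers g)))ˣ := by
      rw [Nat.card_zpowers, hgl]
      infer_instance
    exact isCyclic_of_surjective (IsCyclic.mulAutMulEquiv (Subgroup.zpowers g)).symm
      (IsCyclic.mulAutMulEquiv (Subgroup.zpowers g)).symm.surjective
  obtain ⟨⟨_, a, rfl⟩, hord⟩ := IsCyclic.exists_ofOrder_eq_natCard (α := φ.range)
  rw [← Subgroup.orderOf_coe, hrange] at hord
  change orderOf (φ a) = qN L at hord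
  obtain ⟨r, hr⟩ := he2
  have ha1 : ((a : G) ^ r) ^ 2 ^ (m + 1) = 1 := by
    have := pow_card_eq_one' (G := N) (x := a)
    rw [hNc] at this
    have h2 := congrArg Subtype.val this
    rw [Subgroup.coe_pow, OneMemClass.coe_one] at h2
    rw [← pow_mul, pow_succ, ← hqm, ← h2, hr]
    congr 1
    ring
  have ha2 := sq_eq_one h D hy hye ht ht2 htu hq h4
    (Subgroup.pow_mem _ (hNt a a.2) r) ha1
  have hdvd : qN L ∣ eN L := by
    rw [← hord]
    refine orderOf_dvd_of_pow_eq_one ?_
    rw [← map_pow, show a ^ eN L = 1 from Subtype.ext ?_, map_one]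
    rw [Subgroup.coe_pow, OneMemClass.coe_one, ← ha2, ← pow_mul, hr]
    congr 1
    ring
  have := h4.trans hdvd
  omega

end CfsgLib.BrauerReynolds
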