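import Cfsg.Agent.Lib.BrauerReynolds.Cyclic

/-!
# The exceptional character squared

In the first case `(p - 1) / e` is two.
-/

set_option autoImplicit false
set_option linter.style.haveILetI false
set_option linter.unusedSectionVars false

noncomputable section

namespace CfsgLib.BrauerReynolds

open Cfsg CfsgLib.Characters CfsgLib.CyclicDefect
open scoped ComplexConjugate Classical

universe u

variable {p : ℕ} [hp : Fact p.Prime] {G : Type u} [Group G] [Fintype G]
variable {L : Loc p G} {n u : ℕ} {A B Y R : Finset (IrrCharacter G)}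
variable (h : Hyp L n) (D : Deg L n u A B Y R) {y : G} (hy : y ∈ L.N) (hye : orderOf y = eN L)

theorem fixDim_sum {ι : Type*} (s : Finset ι) (c : ι → ℂ) (F : ι → G → ℂ) :
    fixDim L (fun g => ∑ i ∈ s, c i * F i g) = ∑ i ∈ s, c i * fixDim L (F i) := by
  simp only [fixDim, Finset.mul_sum]
  rw [Finset.sum_comm]
  exact Finset.sum_congr rfl fun i _ => Finset.sum_congr rfl fun z _ => by ring

include h D hy hye in
theorem q_le_two (hu : u = 0) : qN L ≤ 2 := by
  obtain ⟨ψ, hψ⟩ : Y.Nonempty := Finset.card_pos.1 (by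
    rw [D.cardY]; have := D.two_le_q; omega)
  set F : G → ℂ := fun g => (ψ : G → ℂ) g * conj ((ψ : G → ℂ) g) with hF
  have hψc := irr_isCharacter ψ
  have hFc : IsCharacter G F := isCharacter_mul hψc (isCharacter_conj hψc)
  choose c hc using fun χ : IrrCharacter G => classInner_char_nat hFc (irr_isCharacter χ)
  have hexp : F = fun g => ∑ χ : IrrCharacter G, (c χ : ℂ) * (χ : G → ℂ) g := by
    conv_lhs => rw [classFunction_eq_sum (isClassFunction_of_isCharacter hFc)]
    funext g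
    simp [Finset.sum_apply, hc]
  have hc1 : c (principalIrr G) = 1 := by
    have h1 := hc (principalIrr G)
    have h2 := classInner_irr_self ψ.2
    simp only [classInner, hF, principalIrr_apply, map_one, mul_one] at h1 h2
    rw [h2] at h1
    exact_mod_cast h1.symm
  have hx : (ψ : G → ℂ) 1 = (eN L : ℂ) := by
    rw [D.degY ψ hψ, hu, sgn, if_pos rfl]
    simp
  haveI : IsMulCommutative (L.P : Subgroup G) := ⟨⟨L.comm⟩⟩
  obtain ⟨m, hm, hmsum⟩ := le_sum_sq (H := (L.P : Subgroup G))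
    (F := fun z : (L.P : Subgroup G) => (ψ : G → ℂ) z) (by
      obtain ⟨d, ρ, hρ⟩ := hψc
      exact ⟨d, ρ.comp (L.P : Subgroup G).subtype, by funext z; rw [← hρ]; rfl⟩)
    (d := eN L) (by simpa using hx)
  have hfix : fixDim L F = (m : ℂ) := by
    rw [fixDim, hmsum, L.hP, inv_mul_cancel_left₀ (Nat.cast_ne_zero.2 hp.out.ne_zero)]
  rw [hexp, fixDim_sum, D.split, hc1, Nat.cast_one, one_mul] at hfix
  have hone : fixDim L ((principalIrr G : IrrCharacter G) : G → ℂ) = 1 := by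
    rw [fixDim_eq (a := 1) fun z _ _ => principalIrr_apply z, principalIrr_apply,
      div_eq_one_iff_eq (Nat.cast_ne_zero.2 hp.out.ne_zero)]
    ring
  rw [hone,
    Finset.sum_congr (s₁ := A) rfl fun (χ : IrrCharacter G) hχ =>
      show (c χ : ℂ) * fixDim L (χ : G → ℂ) = ((c χ * (n + 1) : ℕ) : ℂ) by
        rw [fixA h D hy hye hχ, Nat.cast_mul],
    Finset.sum_eq_zero (s := B) fun (χ : IrrCharacter G) hχ =>
      show (c χ : ℂ) * fixDim L (χ : G → ℂ) = 0 by
        rw [fixDim_eq (D.valB χ hχ), D.degB χ hχ]; ring,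
    Finset.sum_eq_zero (s := Y) fun (χ : IrrCharacter G) hχ =>
      show (c χ : ℂ) * fixDim L (χ : G → ℂ) = 0 by
        rw [fixY h D hy hye hχ, hu, Nat.cast_zero, mul_zero],
    Finset.sum_congr (s₁ := R) rfl fun (χ : IrrCharacter G) hχ =>
      show (c χ : ℂ) * fixDim L (χ : G → ℂ) = ((c χ * kk p χ : ℕ) : ℂ) by
        rw [fixDim_eq (D.outside χ hχ).1, (deg_R D hχ).2, mul_zero, add_zero,
          mul_div_cancel_left₀ _ (Nat.cast_ne_zero.2 hp.out.ne_zero), Nat.cast_mul]] at hfix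
  have hdeg := congrFun hexp 1
  simp only [hF, hx, map_natCast] at hdeg
  rw [D.split, hc1, principalIrr_apply, Nat.cast_one, one_mul,
    Finset.sum_congr (s₁ := A) rfl fun (χ : IrrCharacter G) hχ =>
      show (c χ : ℂ) * (χ : G → ℂ) 1 = ((c χ * (n * p + 1) : ℕ) : ℂ) by
        rw [D.degA χ hχ]; push_cast; ring,
    Finset.sum_congr (s₁ := B) rfl fun (χ : IrrCharacter G) _ =>
      show (c χ : ℂ) * (χ : G → ℂ) 1 = ((c χ * charDegree (χ : G → ℂ) : ℕ) : ℂ) by
        rw [deg_eq, Nat.cast_mul],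
    Finset.sum_congr (s₁ := Y) rfl fun (χ : IrrCharacter G) _ =>
      show (c χ : ℂ) * (χ : G → ℂ) 1 = ((c χ * charDegree (χ : G → ℂ) : ℕ) : ℂ) by
        rw [deg_eq, Nat.cast_mul],
    Finset.sum_congr (s₁ := R) rfl fun (χ : IrrCharacter G) hχ =>
      show (c χ : ℂ) * (χ : G → ℂ) 1 = ((c χ * (p * kk p χ) : ℕ) : ℂ) by
        rw [(deg_R D hχ).2]; push_cast; ring] at hdeg
  simp only [add_zero] at hfix
  simp only [← Nat.cast_sum] at hfix hdeg
  norm_cast at hfix hdeg
  have hn := h.one_le_n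
  have h3 := h.three_le
  have hA : (p + 1) * ∑ χ ∈ A, c χ * (n + 1) ≤ 2 * ∑ χ ∈ A, c χ * (n * p + 1) := by
    rw [Finset.mul_sum, Finset.mul_sum]
    refine Finset.sum_le_sum fun χ _ => ?_
    have : (p + 1) * (n + 1) ≤ 2 * (n * p + 1) := by nlinarith
    nlinarith
  have hR : (p + 1) * ∑ χ ∈ R, c χ * kk p χ ≤ 2 * ∑ χ ∈ R, c χ * (p * kk p χ) := by
    rw [Finset.mul_sum, Finset.mul_sum]
    refine Finset.sum_le_sum fun χ _ => ?_
    nlinarith [Nat.zero_le (c χ * kk p χ)]
  have he := two_le_eN L h.perf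
  have hq := eN_mul_qN' L
  obtain ⟨e, hee⟩ : ∃ e, eN L = e + 1 := ⟨eN L - 1, by omega⟩
  rw [hee] at hdeg hm hq he
  have hm' : (p + 1) * e ≤ (p + 1) * (∑ χ ∈ A, c χ * (n + 1) + ∑ χ ∈ R, c χ * kk p χ) :=
    Nat.mul_le_mul_left _ (by omega)
  rw [mul_add] at hm'
  have hbound : (p + 1) * e ≤ 2 * e * (e + 2) := by
    linarith [Nat.zero_le (∑ x ∈ B, c x * charDegree (x : G → ℂ)),
      Nat.zero_le (∑ x ∈ Y, c x * charDegree (x : G → ℂ))]
  have h5 : p + 1 ≤ 2 * (e + 2) := le_of_mul_le_mul_right (a := e) (by linarith) (by omega)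
  by_contra hlt
  have : (e + 1) * 3 ≤ (e + 1) * qN L := Nat.mul_le_mul_left _ (by omega)
  omega

end CfsgLib.BrauerReynolds
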