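import Cfsg.Agent.Lib.BrauerReynolds.NoSkew
import Cfsg.Agent.Lib.BrauerReynolds.Tensor
import Cfsg.Agent.Lib.Recog.CentralSylowPSLTwo

/-!
# Recognition of `PSL(2, p)` and `PSL(2, p - 1)`
-/

set_option autoImplicit false
set_option linter.style.haveILetI false
set_option linter.unusedSectionVars false

noncomputable section

namespace CfsgLib.BrauerReynolds

open Cfsg CfsgLib.Characters CfsgLib.CyclicDefect
open CfsgLib.Recog
open scoped ComplexConjugate Classical

universe u

theorem card_centralizer_conj {G : Type u} [Group G] [Finite G] {a b : G} (hab : IsConj a b) :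
    Nat.card (Subgroup.centralizer ({a} : Set G)) =
      Nat.card (Subgroup.centralizer ({b} : Set G)) := by
  have h1 := card_isConj_mul_card_centralizer a
  have h2 := card_isConj_mul_card_centralizer b
  rw [show Nat.card {x : G // IsConj b x} = Nat.card {x : G // IsConj a x} from
    Nat.card_congr (Equiv.subtypeEquivRight fun x => ⟨fun H => hab.trans H, hab.symm.trans⟩)] at h2
  haveI : Nonempty {x : G // IsConj a x} := ⟨⟨a, IsConj.refl a⟩⟩
  exact Nat.eq_of_mul_eq_mul_left (Nat.card_pos) (h1.trans h2.symm)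

variable {p : ℕ} [hp : Fact p.Prime] {G : Type u} [Group G] [Fintype G]
variable {L : Loc p G} {n : ℕ} {A B Y R : Finset (IrrCharacter G)}

theorem Hyp.card_centralizer_pElement (h : Hyp L n) {v : G} (hv : v ≠ 1)
    (hvp : ∃ k, v ^ p ^ k = 1) : Nat.card (Subgroup.centralizer ({v} : Set G)) = p := by
  obtain ⟨k, hk⟩ := hvp
  obtain ⟨i, -, hi⟩ := (Nat.dvd_prime_pow hp.out).1 (orderOf_dvd_of_pow_eq_one hk)
  obtain ⟨Q, hQ⟩ := (IsPGroup.of_card (p := p) (n := i) (G := Subgroup.zpowers v)
    (by rw [Nat.card_zpowers, hi])).exists_le_sylow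
  obtain ⟨a, ha⟩ := MulAction.exists_smul_eq G Q L.P
  have hwP : a * v * a⁻¹ ∈ (L.P : Subgroup G) := by
    rw [← ha]
    exact Subgroup.smul_mem_pointwise_smul v (MulAut.conj a) _ (hQ (Subgroup.mem_zpowers v))
  rw [card_centralizer_conj (isConj_iff.2 ⟨a, rfl⟩ : IsConj v (a * v * a⁻¹))]
  have hw1 : a * v * a⁻¹ ≠ 1 := fun e => hv (conj_eq_one_iff.1 e)
  have hgen : Subgroup.zpowers (a * v * a⁻¹) = (L.P : Subgroup G) := by
    refine Subgroup.eq_of_le_of_card_ge (Subgroup.zpowers_le.2 hwP) (le_of_eq ?_)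
    rw [L.hP, Nat.card_zpowers]
    have h1 : orderOf (a * v * a⁻¹) ∣ p := by
      have := Subgroup.orderOf_dvd_natCard _ hwP
      rwa [L.hP] at this
    exact (((Nat.dvd_prime hp.out).1 h1).resolve_left
      fun e => hw1 (orderOf_eq_one_iff.1 e)).symm
  have hC : Subgroup.centralizer ({a * v * a⁻¹} : Set G) = L.C := by
    refine le_antisymm (fun c hc => ?_) (Subgroup.centralizer_le (Set.singleton_subset_iff.2 hwP))
    refine L.mem_C_iff.2 ?_
    obtain ⟨j, hj⟩ := Subgroup.mem_zpowers_iff.1 (hgen.symm ▸ L.hxP)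
    rw [← hj]
    exact ((show Commute c (a * v * a⁻¹) from
      Subgroup.mem_centralizer_singleton_iff.1 hc).zpow_right j).eq
  rw [hC, h.hC, L.hP]

/-- The first conclusion. -/
theorem psl_p (h : Hyp L n) (hn : n = 1) (hq : qN L = 2) (he : 3 ≤ eN L)
    (hcen : ∀ g ∈ L.N, orderOf g = eN L → Subgroup.centralizer ({g} : Set G) = Subgroup.zpowers g ∧
      ∀ k ∈ Subgroup.zpowers g, k ≠ 1 →
        Nat.card (Subgroup.centralizer ({k} : Set G)) ≤ 2 * eN L) :
    ∃ (F : Type) (_ : Field F) (_ : Fintype F), Fintype.card F = p ∧ 3 < p ∧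
      Nonempty (G ≃* Matrix.ProjectiveSpecialLinearGroup (Fin 2) F) := by
  have hpe : p = 2 * eN L + 1 := by
    have h1 := eN_mul_qN' L
    rw [hq] at h1
    have := hp.out.one_le
    omega
  have hG : Nat.card G = p * (eN L * (p + 1)) := by
    rw [h.hG, hn, one_mul, mul_assoc]
  have hpA : ¬ p ∣ eN L * (p + 1) := by
    intro hd
    rcases hp.out.dvd_mul.1 hd with h1 | h1
    · have := Nat.le_of_dvd (one_le_eN L) h1; omega
    · exact hp.out.not_dvd_one ((Nat.dvd_add_right dvd_rfl).1 h1)
  have hD : CentralSylowTI.Data G p p (eN L * (p + 1)) 2 :=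
    ⟨hp.out, ⟨1, le_rfl, (pow_one p).symm⟩, le_rfl, by
      have key : ∀ e x : ℕ, x = 2 * e + 1 → x ^ 2 = 2 * (e * (x + 1)) + 1 := fun e x hx => by
        subst hx; ring
      have h1 := key (eN L) p hpe
      omega, by omega, hpA, hG, fun v hv hvp => by
      have h1 := h.card_centralizer_pElement hv hvp
      exact ⟨IsPGroup.of_card (n := 1) (by rw [h1, pow_one]), by rw [h1]⟩⟩
  obtain ⟨F, iF, iT, hF, hiso⟩ := CentralSylowPSLTwo.odd_case hD rfl (by omega)
    (fun r hr hrA => by
      haveI := Fact.mk hr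
      obtain ⟨R₀⟩ : Nonempty (Sylow r G) := inferInstance
      have hne : (R₀ : Subgroup G) ≠ ⊥ := R₀.ne_bot_of_dvd_card (by
        rw [hG]; exact dvd_mul_of_dvd_right hrA p)
      haveI : Nontrivial R₀ := (Subgroup.nontrivial_iff_ne_bot _).2 hne
      haveI := R₀.2.center_nontrivial
      obtain ⟨⟨w, hw⟩, hw1⟩ := exists_ne (1 : Subgroup.center R₀)
      have hw1' : (w : G) ≠ 1 := fun e => hw1 (Subtype.ext (Subtype.ext e))
      refine ⟨(w : G), hw1', ⟨R₀, fun a ha => Subgroup.mem_centralizer_singleton_iff.2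
        (congrArg Subtype.val (Subgroup.mem_center_iff.1 hw ⟨a, ha⟩))⟩, fun _ hidx => ?_⟩
      set H := Subgroup.centralizer ({(w : G)} : Set G) with hH
      have hHc : Nat.card H = eN L * (p + 1) := by
        have h1 := H.card_mul_index
        rw [hidx, hG, mul_comm] at h1
        exact Nat.eq_of_mul_eq_mul_left hp.out.pos h1
      have hHN : Nat.card (H ⊓ L.N : Subgroup G) = eN L := by
        have hco : (Nat.card (H ⊓ L.N : Subgroup G)).Coprime p := by
          rw [Nat.coprime_comm, hp.out.coprime_iff_not_dvd]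
          exact fun hd => hpA (hHc ▸ hd.trans (Subgroup.card_dvd_of_le inf_le_left))
        have hle : Nat.card (H ⊓ L.N : Subgroup G) ∣ eN L := by
          have h1 := Subgroup.card_dvd_of_le (inf_le_right : H ⊓ L.N ≤ L.N)
          rw [h.card_N] at h1
          exact hco.dvd_of_dvd_mul_left h1
        refine le_antisymm (Nat.le_of_dvd (one_le_eN L) hle) ?_
        have h1 := (H ⊓ L.N).card_mul_index
        have h2 : (H ⊓ L.N).index ≤ H.index * L.N.index := Subgroup.index_inf_le
        have h3 := L.N.card_mul_index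
        rw [h.card_N] at h3
        have h4 : Nat.card G ≤ Nat.card (H ⊓ L.N : Subgroup G) * (p * L.N.index) := by
          rw [hidx] at h2
          rw [← h1]
          exact Nat.mul_le_mul_left _ h2
        rw [← h3] at h4
        have hidx0 : 0 < L.N.index := Nat.pos_of_ne_zero Subgroup.index_ne_zero_of_finite
        nlinarith [hp.out.pos, Nat.mul_pos hp.out.pos hidx0]
      haveI := h.isCyclic_of_le (S := H ⊓ L.N) inf_le_right (by
        rw [hHN]
        exact fun hd => absurd (Nat.le_of_dvd (one_le_eN L) hd) (not_le.2 (eN_lt L)))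
      obtain ⟨g, hg⟩ := IsCyclic.exists_ofOrder_eq_natCard (α := (H ⊓ L.N : Subgroup G))
      rw [hHN, ← Subgroup.orderOf_coe] at hg
      obtain ⟨hC1, hC2⟩ := hcen g g.2.2 hg
      have hwg : (w : G) ∈ Subgroup.zpowers (g : G) := by
        rw [← hC1, Subgroup.mem_centralizer_singleton_iff]
        exact (Subgroup.mem_centralizer_singleton_iff.1 g.2.1).symm
      have := hC2 _ hwg hw1'
      rw [← hH, hHc] at this
      nlinarith)
  exact ⟨F, iF, iT, hF, by omega, hiso⟩

/-- The second conclusion. -/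
theorem psl_pred (h : Hyp L n) (D : Deg L n 1 A B Y R) (hA : A.card = 0) :
    ∃ (m : ℕ) (F : Type) (_ : Field F) (_ : Fintype F), Fintype.card F = 2 ^ m ∧ p = 2 ^ m + 1 ∧
      3 < p ∧ Nonempty (G ≃* Matrix.ProjectiveSpecialLinearGroup (Fin 2) F) := by
  obtain ⟨y, hy, hye⟩ := h.exists_gen
  obtain ⟨t, ht, ht2, htu⟩ := exists_involution h D hye
  have he : eN L = 2 := by rw [e_eq' D, hA, zero_mul]
  have hq := q_eq D
  have hq2 := D.two_le_q
  have hpq := eN_mul_qN' L
  rw [he] at hpq
  have hCt := card_centralizer_t h D hy hye ht ht2 htu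
  rw [he, hpq] at hCt
  have hconj : ∀ g ∈ Subgroup.centralizer ({t} : Set G), g ≠ 1 → IsConj g t := fun g hg hg1 =>
    conj_of_empty h D hy hye ht ht2 htu hA hg hg1
  have hexp : ∀ g ∈ Subgroup.centralizer ({t} : Set G), g ^ 2 = 1 := by
    intro g hg
    by_cases hg1 : g = 1
    · rw [hg1, one_pow]
    · obtain ⟨a, ha⟩ := isConj_iff.1 (hconj g hg hg1)
      have : orderOf g = 2 := by rw [← ht2, ← ha]; exact ((MulAut.conj a).orderOf_eq g).symm
      rw [← this, pow_orderOf_eq_one]
  haveI : Fact (Nat.Prime 2) := ⟨Nat.prime_two⟩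
  have h2C : IsPGroup 2 (Subgroup.centralizer ({t} : Set G)) := fun g =>
    ⟨1, Subtype.ext (by simpa using hexp g g.2)⟩
  obtain ⟨m, hm⟩ := IsPGroup.iff_card.1 h2C
  rw [hCt] at hm
  obtain ⟨r, hr⟩ : ∃ r, p = r + 2 := ⟨p - 2, by omega⟩
  have hG : Nat.card G = (p - 1) * (p * r) := by
    rw [h.hG, he, ← hpq]
    have h1 : n * p + 1 = qN L * r := by
      rw [show r = 2 * n + 1 by omega, hq,
        show n * p = n * (2 * n + 3) from congrArg _ (by omega)]
      ring
    rw [h1]
    ring
  have hodd : ¬ 2 ∣ p * r := by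
    intro hd
    rcases Nat.prime_two.dvd_mul.1 hd with h1 | h1 <;> omega
  have hm1 : 2 ^ m ∣ Nat.card G := by rw [hG, ← hm]; exact dvd_mul_right _ _
  have hfac : (Nat.card G).factorization 2 = m := by
    rw [hG, hm, Nat.factorization_mul (pow_ne_zero _ two_ne_zero)
      (fun e => hodd (by rw [e]; exact dvd_zero 2)), Finsupp.add_apply,
      Nat.factorization_eq_zero_of_not_dvd hodd, add_zero, Nat.prime_two.factorization_pow,
      Finsupp.single_eq_same]
  have hcv : ∀ v : G, v ≠ 1 → (∃ k, v ^ 2 ^ k = 1) →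
      Nat.card (Subgroup.centralizer ({v} : Set G)) = p - 1 := by
    intro v hv hvk
    obtain ⟨k, hk⟩ := hvk
    obtain ⟨i, -, hi⟩ := (Nat.dvd_prime_pow Nat.prime_two).1 (orderOf_dvd_of_pow_eq_one hk)
    obtain ⟨Q, hQ⟩ := (IsPGroup.of_card (p := 2) (n := i) (G := Subgroup.zpowers v)
      (by rw [Nat.card_zpowers, hi])).exists_le_sylow
    obtain ⟨T, hT⟩ := h2C.exists_le_sylow
    have hTeq : Subgroup.centralizer ({t} : Set G) = (T : Subgroup G) := by
      refine Subgroup.eq_of_le_of_card_ge hT ?_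
      rw [hCt, hm, T.card_eq_multiplicity, hfac]
    obtain ⟨a, ha⟩ := MulAction.exists_smul_eq G Q T
    have hwC : a * v * a⁻¹ ∈ Subgroup.centralizer ({t} : Set G) := by
      rw [hTeq, ← ha]
      exact Subgroup.smul_mem_pointwise_smul v (MulAut.conj a) _ (hQ (Subgroup.mem_zpowers v))
    rw [card_centralizer_conj (isConj_iff.2 ⟨a, rfl⟩ : IsConj v (a * v * a⁻¹)),
      card_centralizer_conj (hconj _ hwC fun e => hv (conj_eq_one_iff.1 e)), hCt]
  have hD : CentralSylowTI.Data G 2 (p - 1) (p * r) 1 :=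
    ⟨Nat.prime_two, ⟨m, Nat.pos_of_ne_zero fun e => by rw [e, pow_zero] at hm; omega, hm⟩,
      by norm_num, by
      obtain rfl : p = r + 2 := hr
      rw [one_mul, show r + 2 - 1 = r + 1 by omega]
      have : (r + 1) ^ 2 = (r + 2) * r + 1 := by ring
      omega, by omega, hodd, hG, fun v hv hvk => by
      have h1 := hcv v hv hvk
      exact ⟨IsPGroup.of_card (h1.trans hm), by rw [h1]⟩⟩
  obtain ⟨F, iF, iT, hF, hiso⟩ := CentralSylowPSLTwo.even_case hD (by omega)
  exact ⟨m, F, iF, iT, hF.trans hm, by omega, by omega, hiso⟩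

/-- The dichotomy. -/
theorem of_hyp (h : Hyp L n) :
    (∃ (F : Type) (_ : Field F) (_ : Fintype F), Fintype.card F = p ∧ 3 < p ∧
      Nonempty (G ≃* Matrix.ProjectiveSpecialLinearGroup (Fin 2) F)) ∨
    (∃ (m : ℕ) (F : Type) (_ : Field F) (_ : Fintype F), Fintype.card F = 2 ^ m ∧ p = 2 ^ m + 1 ∧
      3 < p ∧ Nonempty (G ≃* Matrix.ProjectiveSpecialLinearGroup (Fin 2) F)) := by
  obtain ⟨u, A, B, Y, R, D⟩ := exists_deg h
  obtain ⟨y, hy, hye⟩ := h.exists_gen
  have hgen : ∀ g : G, orderOf g = eN L →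
      Nat.card (Subgroup.centralizer ({g} : Set G)) = eN L →
      Subgroup.centralizer ({g} : Set G) = Subgroup.zpowers g := fun g hg hc =>
    (Subgroup.eq_of_le_of_card_ge (Subgroup.zpowers_le.2
      (Subgroup.mem_centralizer_singleton_iff.2 rfl)) (by rw [hc, Nat.card_zpowers, hg])).symm
  rcases u_eq h D hy hye with ⟨hu, hdvd⟩ | ⟨hu, hq⟩
  · left
    have hq2 := q_le_two h D hy hye hu
    have hn1 := h.one_le_n
    have h2 := D.two_le_q
    have := Nat.le_of_dvd (by omega) hdvd
    have hn : n = 1 := by omega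
    have he := D.countA
    rw [hu, hn] at he
    have he2 := two_le_eN L h.perf
    refine psl_p h hn (by omega) (by omega) fun g hg hge => ?_
    have hC : ∀ k ∈ Subgroup.zpowers g, k ≠ 1 →
        Nat.card (Subgroup.centralizer ({k} : Set G)) = eN L := by
      intro k hk hk1
      have hle := sum_centralizer_le h D hg hge
      have hlow : ∀ a ∈ Finset.univ.erase (1 : Subgroup.zpowers g),
          (eN L : ℤ) ≤ (Nat.card (Subgroup.centralizer ({(a : G)} : Set G)) : ℤ) := fun a _ => by
        exact_mod_cast eN_le_centralizer hge a.2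
      have hsum : ∑ a ∈ Finset.univ.erase (1 : Subgroup.zpowers g), (eN L : ℤ) =
          ∑ a ∈ Finset.univ.erase (1 : Subgroup.zpowers g),
            (Nat.card (Subgroup.centralizer ({(a : G)} : Set G)) : ℤ) := by
        refine le_antisymm (Finset.sum_le_sum hlow) (hle.trans (le_of_eq ?_))
        rw [Finset.sum_const, Finset.card_erase_of_mem (Finset.mem_univ _), Finset.card_univ,
          ← Nat.card_eq_fintype_card, card_zpowers_gen hge, nsmul_eq_mul,
          Nat.cast_sub (one_le_eN L), hu, hn]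
        have hee : (A.card : ℤ) * 2 + 1 = eN L := by exact_mod_cast (by omega : A.card * 2 + 1 = eN L)
        push_cast
        linear_combination ((eN L : ℤ) - 2) * hee
      have := (Finset.sum_eq_sum_iff_of_le hlow).1 hsum ⟨k, hk⟩
        (Finset.mem_erase.2 ⟨fun e => hk1 (congrArg Subtype.val e), Finset.mem_univ _⟩)
      exact_mod_cast this.symm
    refine ⟨hgen g hge (hC g (Subgroup.mem_zpowers g) fun e => ?_), fun k hk hk1 => by
      rw [hC k hk hk1]; omega⟩
    rw [e, orderOf_one] at hge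
    omega
  · subst hu
    by_cases hA : A.card = 0
    · exact Or.inr (psl_pred h D hA)
    · left
      have hq2 := D.two_le_q
      have hqq : qN L = 2 := by
        by_contra hne
        obtain ⟨t, ht, ht2, htu⟩ := exists_involution h D hye
        exact no_skew h D hy hye ht ht2 htu hA (by omega)
      have hn : n = 1 := by omega
      have he := e_eq' D
      rw [hqq] at he
      refine psl_p h hn hqq (by omega) fun g hg hge => ?_
      obtain ⟨t, ht, ht2, htu⟩ := exists_involution h D hge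
      have hC : ∀ k ∈ Subgroup.zpowers g, k ≠ 1 → k ≠ t →
          Nat.card (Subgroup.centralizer ({k} : Set G)) = eN L := fun k hk hk1 hkt =>
        centralizer_other h D hg hge ht ht2 htu hk hk1 hkt
      refine ⟨hgen g hge (hC g (Subgroup.mem_zpowers g) (fun e => ?_) fun e => ?_),
        fun k hk hk1 => ?_⟩
      · rw [e, orderOf_one] at hge; omega
      · rw [e, ht2] at hge; omega
      · by_cases hkt : k = t
        · rw [hkt, card_centralizer_t h D hg hge ht ht2 htu, hqq, mul_comm]
        · rw [hC k hk hk1 hkt]; omega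

end CfsgLib.BrauerReynolds
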