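import Cfsg.Agent.Lib.Characters.Values
import Cfsg.Agent.Lib.Characters.Ito
import Cfsg.Agent.Lib.Characters.NormalAvg
import Cfsg.Agent.Lib.Recognition.RealDegreeThree
import Mathlib.RingTheory.RootsOfUnity.Complex

/-!
# Auxiliary facts on characters of small subgroups

Sums of squares, determinants, and conjugates inside a cyclic subgroup.
-/

set_option autoImplicit false
set_option linter.style.haveILetI false

noncomputable section

namespace CfsgLib.BrauerReynolds

open Cfsg CfsgLib.Characters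
open scoped ComplexConjugate Classical

universe u

variable {H : Type u} [Group H] [Fintype H]

theorem sum_mul_conj_nat {F F' : H → ℂ} (hF : IsCharacter H F) (hF' : IsCharacter H F') :
    ∃ m : ℕ, ∑ g, F g * conj (F' g) = (Nat.card H : ℂ) * m := by
  obtain ⟨m, hm⟩ := classInner_char_nat hF hF'
  refine ⟨m, ?_⟩
  rw [← hm, classInner, mul_inv_cancel_left₀ (Nat.cast_ne_zero.2 Nat.card_pos.ne')]

theorem sum_nat {F : H → ℂ} (hF : IsCharacter H F) :
    ∃ m : ℕ, ∑ g, F g = (Nat.card H : ℂ) * m := by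
  obtain ⟨m, hm⟩ := sum_mul_conj_nat hF (isCharacter_one (G := H))
  exact ⟨m, by simpa using hm⟩

/-- A constituent of the regular character of a group. -/
theorem sum_sq_le {F R : H → ℂ} (hF : IsCharacter H F) (hR : IsCharacter H R) {d : ℕ}
    (hd : F 1 = d) (h1 : F 1 + R 1 = Nat.card H) (h0 : ∀ g, g ≠ 1 → F g + R g = 0) :
    ∃ m : ℕ, m ≤ d ∧ ∑ g, F g * conj (F g) = (Nat.card H : ℂ) * m := by
  obtain ⟨m, hm⟩ := sum_mul_conj_nat hF hF
  obtain ⟨m', hm'⟩ := sum_mul_conj_nat hF hR
  refine ⟨m, ?_, hm⟩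
  have hsum : ∑ g, (F g * conj (F g) + F g * conj (R g)) = (d : ℂ) * Nat.card H := by
    rw [Fintype.sum_eq_single (1 : H) fun g hg => by
      rw [← mul_add, ← map_add, h0 g hg, map_zero, mul_zero]]
    rw [← mul_add, ← map_add, h1, hd, map_natCast]
  rw [Finset.sum_add_distrib, hm, hm', ← mul_add, mul_comm (d : ℂ)] at hsum
  have h2 : (m : ℂ) + m' = d := mul_left_cancel₀ (Nat.cast_ne_zero.2 Nat.card_pos.ne') hsum
  have h3 : m + m' = d := by exact_mod_cast h2
  omega

/-- For an abelian group the norm of a character is at least its degree. -/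
theorem le_sum_sq [IsMulCommutative H] {F : H → ℂ} (hF : IsCharacter H F) {d : ℕ}
    (hd : F 1 = d) :
    ∃ m : ℕ, d ≤ m ∧ ∑ g, F g * conj (F g) = (Nat.card H : ℂ) * m := by
  obtain ⟨m, hm⟩ := sum_mul_conj_nat hF hF
  refine ⟨m, ?_, hm⟩
  choose c hc using fun χ : IrrCharacter H => classInner_char_nat hF (irr_isCharacter χ)
  have hcls := isClassFunction_of_isCharacter hF
  have h1 := congrFun (classFunction_eq_sum hcls) (1 : H)
  simp only [Finset.sum_apply, Pi.smul_apply, smul_eq_mul, hc,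
    fun χ : IrrCharacter H => CharIto.degree_one_of_comm χ.2, mul_one, hd] at h1
  have h2 := classInner_eq_sum_mul (φ := F) hcls
  simp only [hc, map_natCast] at h2
  rw [classInner, hm, inv_mul_cancel_left₀ (Nat.cast_ne_zero.2 Nat.card_pos.ne')] at h2
  have h1' : d = ∑ χ, c χ := by exact_mod_cast h1
  have h2' : m = ∑ χ, c χ * c χ := by exact_mod_cast h2
  rw [h1', h2']
  exact Finset.sum_le_sum fun χ _ => Nat.le_mul_self _

/-- In a perfect group an element of even order `e` on which a character of degree `e * q`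
is a multiple of the regular character forces `q` to be even. -/
theorem even_of_regular {G : Type u} [Group G] [Finite G] (hperf : commutator G = ⊤)
    {χ : G → ℂ} (hχ : IsCharacter G χ) {y : G} {q : ℕ} (hd : χ 1 = (orderOf y * q : ℕ))
    (h0 : ∀ j, 0 < j → j < orderOf y → χ (y ^ j) = 0) (he : Even (orderOf y)) : Even q := by
  obtain ⟨d, ρ, rfl⟩ := hχ
  obtain ⟨b, ω, hω, hb⟩ := exists_eigenbasis ρ y
  set e := orderOf y with he'
  have hepos : 0 < e := orderOf_pos y
  have hfr : Module.finrank ℂ (Fin d → ℂ) = e * q := by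
    rw [Representation.char_one, Nat.cast_inj] at hd
    exact hd
  have hbp : ∀ j : ℕ, ∀ i, ρ (y ^ j) (b i) = ω i ^ j • b i := by
    intro j
    induction j with
    | zero => intro i; simp
    | succ j ih =>
      intro i
      rw [pow_succ', map_mul, Module.End.mul_apply, ih, map_smul, hb, smul_smul, pow_succ]
  have hsum : ∀ j : ℕ, ρ.character (y ^ j) = ∑ i, ω i ^ j := fun j =>
    character_eq_sum_of_eigenbasis ρ (y ^ j) b _ (hbp j)
  set ζ := Complex.exp (2 * Real.pi * Complex.I / e)
  have hζ : IsPrimitiveRoot ζ e := Complex.isPrimitiveRoot_exp e hepos.ne'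
  have hidx : ∀ i, ∃ c : Fin e, ζ ^ (c : ℕ) = ω i := fun i => by
    haveI : NeZero e := ⟨hepos.ne'⟩
    obtain ⟨c, hc, hcω⟩ := hζ.eq_pow_of_pow_eq_one (hω i)
    exact ⟨⟨c, hc⟩, hcω⟩
  choose c hc using hidx
  have hmult : ∀ k : Fin e, (Finset.univ.filter fun i => c i = k).card = q := by
    intro k
    have hk0 : ζ ^ (k : ℕ) ≠ 0 := pow_ne_zero _ (hζ.ne_zero hepos.ne')
    have hgeom : ∀ i, ∑ j ∈ Finset.range e, (ω i / ζ ^ (k : ℕ)) ^ j =
        if c i = k then (e : ℂ) else 0 := by
      intro i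
      by_cases h : c i = k
      · simp [if_pos h, ← hc, h, div_self hk0]
      · rw [if_neg h]
        have hne : ω i / ζ ^ (k : ℕ) ≠ 1 := by
          intro h1
          rw [div_eq_one_iff_eq hk0, ← hc] at h1
          exact h (Fin.ext (hζ.pow_inj (c i).2 k.2 h1))
        rw [geom_sum_eq hne, div_pow, ← pow_mul, mul_comm (k : ℕ), pow_mul, hζ.pow_eq_one, one_pow,
          hω, div_one, sub_self, zero_div]
    have hswap : ∑ j ∈ Finset.range e, (∑ i, ω i ^ j) / (ζ ^ (k : ℕ)) ^ j =
        ((Finset.univ.filter fun i => c i = k).card : ℂ) * e := by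
      simp only [Finset.sum_div, ← div_pow]
      rw [Finset.sum_comm, Finset.sum_congr rfl fun i _ => hgeom i, ← Finset.sum_filter,
        Finset.sum_const, nsmul_eq_mul]
    have hlhs : ∑ j ∈ Finset.range e, (∑ i, ω i ^ j) / (ζ ^ (k : ℕ)) ^ j = (e * q : ℕ) := by
      rw [Finset.sum_eq_single 0 (fun j hj hj0 => by
        rw [← hsum, h0 j (Nat.pos_of_ne_zero hj0) (Finset.mem_range.1 hj), zero_div])
        fun h => (h (Finset.mem_range.2 hepos)).elim]
      simp [hfr]
    rw [hswap] at hlhs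
    have h : (Finset.univ.filter fun i => c i = k).card * e = e * q := by exact_mod_cast hlhs
    exact mul_right_cancel₀ hepos.ne' (h.trans (mul_comm e q))
  have hdet : ∏ i, ω i = 1 := by
    rw [← RealDegreeThree.det_eq_prod_eigen (ρ y) b ω hb]
    exact RealDegreeThree.det_eq_one_of_perfect hperf ρ y
  have hprod : ∏ i, ω i = (ζ ^ (∑ k ∈ Finset.range e, k)) ^ q := by
    rw [← Finset.prod_congr rfl fun i _ => hc i, ← Finset.prod_fiberwise' Finset.univ c
      fun k => ζ ^ (k : ℕ)]
    simp only [Finset.prod_const, hmult, Finset.prod_pow]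
    congr 1
    rw [Fin.prod_univ_eq_prod_range fun k => ζ ^ k, Finset.prod_pow_eq_pow_sum]
  obtain ⟨h, hh⟩ := he
  have hhalf : ζ ^ h = -1 := by
    refine (mul_self_eq_one_iff.1 ?_).resolve_left (hζ.pow_ne_one_of_pos_of_lt (by omega) (by omega))
    rw [← pow_add, ← hh, hζ.pow_eq_one]
  have hs : ∑ k ∈ Finset.range e, k = h * (e - 1) := by
    have := Finset.sum_range_id_mul_two e
    refine Nat.eq_of_mul_eq_mul_right two_pos (this.trans ?_)
    rw [mul_right_comm, mul_two, ← hh]
  rw [hprod, hs, pow_mul, hhalf, Odd.neg_one_pow (by rw [Nat.odd_iff]; omega)] at hdet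
  exact (neg_one_pow_eq_one_iff_even (by norm_num)).1 hdet

theorem mem_normalizer_zpowers_iff {G : Type u} [Group G] [Finite G] {a g : G} :
    a ∈ Subgroup.normalizer ((Subgroup.zpowers g : Subgroup G) : Set G) ↔
      a * g * a⁻¹ ∈ Subgroup.zpowers g := by
  refine ⟨fun h => (Subgroup.mem_normalizer_iff.1 h g).1 (Subgroup.mem_zpowers g), fun h => ?_⟩
  refine Subgroup.mem_normalizer_fintype fun x hx => ?_
  obtain ⟨i, rfl⟩ := Subgroup.mem_zpowers_iff.1 hx
  rw [← conj_zpow]
  exact Subgroup.zpow_mem _ h i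

theorem conj_mem_zpowers {G : Type u} [Group G] [Finite G] (Y : Subgroup G) [IsCyclic Y]
    {g h a : G} (hg : g ∈ Y) (hh : h ∈ Y) (ha : a * g * a⁻¹ = h) : h ∈ Subgroup.zpowers g := by
  haveI : Fintype Y := Fintype.ofFinite Y
  have hord : orderOf h = orderOf g := by
    rw [← ha]
    exact (MulAut.conj a).orderOf_eq g
  set g' : Y := ⟨g, hg⟩
  set n := orderOf g' with hn
  let S : Finset Y := Finset.univ.filter fun x => x ^ n = 1
  have hsub : (Subgroup.zpowers g' : Set Y).toFinset ⊆ S := fun x hx => by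
    obtain ⟨i, rfl⟩ := Subgroup.mem_zpowers_iff.1 (Set.mem_toFinset.1 hx)
    refine Finset.mem_filter.2 ⟨Finset.mem_univ _, ?_⟩
    rw [← zpow_natCast, ← zpow_mul, mul_comm, zpow_mul, zpow_natCast, hn, pow_orderOf_eq_one,
      one_zpow]
  have hcard : S.card ≤ (Subgroup.zpowers g' : Set Y).toFinset.card := by
    rw [Set.toFinset_card, ← Nat.card_eq_fintype_card]
    refine (IsCyclic.card_pow_eq_one_le (orderOf_pos g')).trans (le_of_eq ?_)
    exact (Nat.card_zpowers g').symm
  have hS : (⟨h, hh⟩ : Y) ∈ S := by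
    refine Finset.mem_filter.2 ⟨Finset.mem_univ _, Subtype.ext ?_⟩
    rw [hn, ← Subgroup.orderOf_coe g']
    show h ^ orderOf g = 1
    rw [← hord]
    exact pow_orderOf_eq_one h
  rw [← Finset.eq_of_subset_of_card_le hsub hcard, Set.mem_toFinset] at hS
  obtain ⟨i, hi⟩ := Subgroup.mem_zpowers_iff.1 hS
  exact Subgroup.mem_zpowers_iff.2 ⟨i, congrArg Subtype.val hi⟩

/-- The conjugates of `g` inside a cyclic group through it come from the normaliser of `⟨g⟩`. -/
theorem card_conj_mul_centralizer {G : Type u} [Group G] [Finite G] (Y : Subgroup G) [IsCyclic Y]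
    {g : G} (hg : g ∈ Y) :
    Nat.card {h : Y // IsConj g (h : G)} * Nat.card (Subgroup.centralizer ({g} : Set G)) =
      Nat.card (Subgroup.normalizer ((Subgroup.zpowers g : Subgroup G) : Set G)) := by
  set N := Subgroup.normalizer ((Subgroup.zpowers g : Subgroup G) : Set G) with hN
  have hgN : g ∈ N := Subgroup.le_normalizer (Subgroup.mem_zpowers g)
  rw [← card_isConj_mul_card_centralizer (⟨g, hgN⟩ : N)]
  have hzle : Subgroup.zpowers g ≤ Y := Subgroup.zpowers_le.2 hg
  have hCN : Subgroup.centralizer ({g} : Set G) ≤ N := by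
    intro a ha
    refine mem_normalizer_zpowers_iff.2 ?_
    rw [show a * g * a⁻¹ = g by
      rw [Subgroup.mem_centralizer_singleton_iff.1 ha, mul_inv_cancel_right]]
    exact Subgroup.mem_zpowers g
  congr 1
  · refine Nat.card_congr
      { toFun := fun h => ⟨⟨(h.1 : G), ?_⟩, ?_⟩
        invFun := fun h => ⟨⟨(h.1 : G), ?_⟩, ?_⟩
        left_inv := fun h => Subtype.ext (Subtype.ext rfl)
        right_inv := fun h => Subtype.ext (Subtype.ext rfl) }
    · obtain ⟨a, ha⟩ := isConj_iff.1 h.2
      refine hN ▸ Subgroup.le_normalizer ?_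
      exact conj_mem_zpowers Y hg h.1.2 ha
    · obtain ⟨a, ha⟩ := isConj_iff.1 h.2
      refine isConj_iff.2 ⟨⟨a, ?_⟩, Subtype.ext ha⟩
      refine mem_normalizer_zpowers_iff.2 ?_
      rw [ha]
      exact conj_mem_zpowers Y hg h.1.2 ha
    · obtain ⟨a, ha⟩ := isConj_iff.1 h.2
      have ha' : (a : G) * g * (a : G)⁻¹ = (h.1 : G) := congrArg Subtype.val ha
      exact hzle (ha' ▸ mem_normalizer_zpowers_iff.1 a.2)
    · exact isConj_iff.2 ⟨((isConj_iff.1 h.2).choose : G),
        congrArg Subtype.val (isConj_iff.1 h.2).choose_spec⟩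
  · have : Subgroup.centralizer ({(⟨g, hgN⟩ : N)} : Set N) =
        (Subgroup.centralizer ({g} : Set G)).subgroupOf N := by
      ext a
      rw [Subgroup.mem_subgroupOf, Subgroup.mem_centralizer_singleton_iff,
        Subgroup.mem_centralizer_singleton_iff, Subtype.ext_iff]
      rfl
    rw [this, Nat.card_congr (Subgroup.subgroupOfEquivOfLe hCN).toEquiv]

end CfsgLib.BrauerReynolds
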