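import Cfsg.Agent.Lib.BrauerReynolds.Core
import Cfsg.Agent.Lib.BrauerReynolds.Small
import Mathlib.GroupTheory.SchurZassenhaus

/-!
# The normaliser of a self-centralising subgroup of prime order
-/

set_option autoImplicit false
set_option linter.style.haveILetI false
set_option linter.unusedSectionVars false

noncomputable section

namespace CfsgLib.BrauerReynolds

open Cfsg CfsgLib.Characters CfsgLib.CyclicDefect
open scoped ComplexConjugate Classical commutatorElement

universe u

variable {p : ℕ} [hp : Fact p.Prime] {G : Type u} [Group G] [Fintype G]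

theorem one_le_eN (L : Loc p G) : 0 < eN L :=
  Nat.pos_of_ne_zero fun h => Subgroup.index_ne_zero_of_finite (H := L.C.subgroupOf L.N) h

theorem eN_dvd (L : Loc p G) : eN L ∣ p - 1 := by
  haveI : Fintype L.Dual := @Fintype.ofFinite _ L.finite_dual
  exact ⟨qN L, (eN_mul_qN L).symm⟩

theorem eN_lt (L : Loc p G) : eN L < p := by
  have h1 := hp.out.two_le
  have h2 := Nat.le_of_dvd (by omega) (eN_dvd L)
  omega

theorem qN_pos (L : Loc p G) : 0 < qN L :=
  Nat.div_pos (Nat.le_of_dvd (Nat.sub_pos_of_lt hp.out.one_lt) (eN_dvd L)) (one_le_eN L)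

theorem eN_mul_qN' (L : Loc p G) : eN L * qN L = p - 1 :=
  Nat.mul_div_cancel' (eN_dvd L)

/-- The action of the normaliser on the Sylow subgroup. -/
def actP (L : Loc p G) : L.N →* MulAut (L.P : Subgroup G) :=
  (L.P : Subgroup G).normalizerMonoidHom

theorem isCyclic_aut (L : Loc p G) : IsCyclic (MulAut (L.P : Subgroup G)) := by
  haveI : IsCyclic (L.P : Subgroup G) := isCyclic_of_prime_card L.hP
  haveI : IsCyclic (ZMod (Nat.card (L.P : Subgroup G)))ˣ := by
    rw [show Nat.card (L.P : Subgroup G) = p from L.hP]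
    infer_instance
  exact isCyclic_of_surjective (IsCyclic.mulAutMulEquiv (L.P : Subgroup G)).symm
      (IsCyclic.mulAutMulEquiv (L.P : Subgroup G)).symm.surjective

theorem actP_comm (L : Loc p G) : IsMulCommutative (MulAut (L.P : Subgroup G)) :=
  haveI := isCyclic_aut L
  IsCyclic.isMulCommutative

theorem mem_C_of_actP {L : Loc p G} {n : L.N} (h : actP L n = 1) : (n : G) ∈ L.C := by
  refine L.mem_C_iff.2 ?_
  have h4 := DFunLike.congr_fun h (⟨L.x, L.hxP⟩ : (L.P : Subgroup G))
  exact mul_inv_eq_iff_eq_mul.1 (congrArg Subtype.val h4)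

theorem commutator_le_C (L : Loc p G) {a b : G} (ha : a ∈ L.N) (hb : b ∈ L.N) :
    ⁅a, b⁆ ∈ L.C := by
  haveI := actP_comm L
  have h : actP L ⁅(⟨a, ha⟩ : L.N), ⟨b, hb⟩⁆ = 1 := by
    rw [map_commutatorElement, commutatorElement_eq_one_iff_mul_comm, mul_comm']
  exact mem_C_of_actP h

/-- A perfect group is not `p`-nilpotent. -/
theorem two_le_eN (L : Loc p G) (hperf : commutator G = ⊤) : 2 ≤ eN L := by
  by_contra hlt
  have h1 : eN L = 1 := by have := one_le_eN L; omega
  have hNC : L.N ≤ L.C := Subgroup.relIndex_eq_one.1 h1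
  let f := MonoidHom.transferSylow L.P hNC
  have hker : commutator G ≤ f.ker := by
    rw [commutator_def, Subgroup.commutator_le]
    intro a _ b _
    rw [MonoidHom.mem_ker, map_commutatorElement, commutatorElement_eq_one_iff_mul_comm]
    exact L.comm _ _
  have hx : f L.x = 1 := MonoidHom.mem_ker.1 (hker (hperf ▸ Subgroup.mem_top _))
  rw [MonoidHom.transferSylow_eq_pow L.P hNC L.x L.hxP] at hx
  have hx' : L.x ^ (L.P : Subgroup G).index = 1 := congrArg Subtype.val hx
  have hd : orderOf L.x ∣ (L.P : Subgroup G).index := orderOf_dvd_of_pow_eq_one hx'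
  rw [L.hx] at hd
  exact L.P.not_dvd_index hd

/-- A self-centralising Sylow subgroup of prime order in a perfect group, with few conjugates. -/
structure Hyp (L : Loc p G) (n : ℕ) : Prop where
  perf : commutator G = ⊤
  hC : L.C = (L.P : Subgroup G)
  hn : 2 * n < p + 3
  hG : Nat.card G = p * eN L * (n * p + 1)
  hSyl : Nat.card (Sylow p G) = n * p + 1

variable {L : Loc p G} {n : ℕ}

theorem Hyp.card_O (h : Hyp L n) : Nat.card L.O = 1 := by
  have h1 := L.card_C
  rw [h.hC, L.hP] at h1
  exact (Nat.eq_of_mul_eq_mul_left hp.out.pos ((mul_one p).trans h1)).symm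

theorem Hyp.three_le (h : Hyp L n) : 3 ≤ p := by
  have := two_le_eN L h.perf
  have := eN_lt L
  omega

theorem Hyp.one_le_n (h : Hyp L n) : 1 ≤ n := by
  by_contra hn
  have hn0 : n = 0 := by omega
  haveI : Subsingleton (Sylow p G) := by
    rw [← Finite.card_le_one_iff_subsingleton, h.hSyl, hn0]
    simp
  haveI : (L.P : Subgroup G).Normal := L.P.normal_of_subsingleton
  have hN : L.N = ⊤ := Subgroup.normalizer_eq_top (H := (L.P : Subgroup G))
  have hle : commutator G ≤ L.C := by
    rw [commutator_def, Subgroup.commutator_le]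
    intro a _ b _
    exact commutator_le_C L (hN ▸ Subgroup.mem_top a) (hN ▸ Subgroup.mem_top b)
  have hPC : ∀ g : G, g ∈ (L.P : Subgroup G) := fun g =>
    h.hC ▸ hle (h.perf ▸ Subgroup.mem_top g)
  have hbot : commutator G ≤ ⊥ := by
    rw [commutator_def, Subgroup.commutator_le]
    intro a _ b _
    rw [Subgroup.mem_bot, commutatorElement_eq_one_iff_mul_comm]
    exact congrArg Subtype.val (L.comm ⟨a, hPC a⟩ ⟨b, hPC b⟩)
  have hx : L.x ∈ (⊥ : Subgroup G) := hbot (h.perf ▸ Subgroup.mem_top _)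
  have := L.hx
  rw [Subgroup.mem_bot.1 hx, orderOf_one] at this
  exact hp.out.one_lt.ne this

theorem Hyp.card_N (h : Hyp L n) : Nat.card L.N = p * eN L := by
  have h1 := L.P.card_eq_index_normalizer
  rw [h.hSyl] at h1
  have h2 := L.N.card_mul_index
  rw [← Sylow.coe_coe] at h1
  rw [← h1, h.hG] at h2
  exact Nat.eq_of_mul_eq_mul_right (Nat.succ_pos _) h2

/-- A subgroup of the normaliser of order prime to `p` is cyclic. -/
theorem Hyp.isCyclic_of_le (h : Hyp L n) {S : Subgroup G} (hS : S ≤ L.N)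
    (hco : ¬ p ∣ Nat.card S) : IsCyclic S := by
  haveI := isCyclic_aut L
  refine isCyclic_of_injective ((actP L).comp (Subgroup.inclusion hS))
    ((injective_iff_map_eq_one _).2 fun s hs => ?_)
  have hsP : (s : G) ∈ (L.P : Subgroup G) := h.hC ▸ mem_C_of_actP hs
  by_contra hs1
  refine hco ?_
  have h1 : orderOf (s : G) ∣ p := by
    have := Subgroup.orderOf_dvd_natCard _ hsP
    rwa [L.hP] at this
  rw [← ((Nat.dvd_prime hp.out).1 h1).resolve_left fun e =>
    hs1 (Subtype.ext (orderOf_eq_one_iff.1 e))]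
  exact Subgroup.orderOf_dvd_natCard _ s.2

/-- An element of the normaliser acting as a generator. -/
theorem Hyp.exists_gen (h : Hyp L n) : ∃ y ∈ L.N, orderOf y = eN L := by
  haveI := P_normal_in_N L
  have hcard : Nat.card ((L.P : Subgroup G).subgroupOf L.N) = p := by
    rw [Nat.card_congr (Subgroup.subgroupOfEquivOfLe
      (Subgroup.le_normalizer (H := (L.P : Subgroup G)))).toEquiv, L.hP]
  have hco : Nat.Coprime (Nat.card ((L.P : Subgroup G).subgroupOf L.N))
      ((L.P : Subgroup G).subgroupOf L.N).index := by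
    have h2 := ((L.P : Subgroup G).subgroupOf L.N).card_mul_index
    rw [hcard, h.card_N] at h2
    rw [hcard, Nat.eq_of_mul_eq_mul_left hp.out.pos h2, hp.out.coprime_iff_not_dvd]
    exact fun hd => absurd (Nat.le_of_dvd (one_le_eN L) hd) (not_le.2 (eN_lt L))
  obtain ⟨K, hK⟩ := Subgroup.exists_right_complement'_of_coprime hco
  have hKc : Nat.card K = eN L := by
    have h2 := hK.card_mul
    rw [hcard, h.card_N] at h2
    exact Nat.eq_of_mul_eq_mul_left hp.out.pos h2
  have hmap : Nat.card (K.map L.N.subtype) = eN L := by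
    rw [Subgroup.card_map_of_injective (Subgroup.subtype_injective _), hKc]
  haveI := h.isCyclic_of_le (S := K.map L.N.subtype) (Subgroup.map_subtype_le K) (by
    rw [hmap]
    exact fun hd => absurd (Nat.le_of_dvd (one_le_eN L) hd) (not_le.2 (eN_lt L)))
  obtain ⟨y, hy⟩ := IsCyclic.exists_ofOrder_eq_natCard (α := K.map L.N.subtype)
  exact ⟨y, Subgroup.map_subtype_le K y.2, by rw [Subgroup.orderOf_coe, hy, hmap]⟩

theorem zpowers_le_N {y : G} (hy : y ∈ L.N) : Subgroup.zpowers y ≤ L.N :=
  Subgroup.zpowers_le.2 hy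

theorem card_zpowers_gen {y : G} (hye : orderOf y = eN L) :
    Nat.card (Subgroup.zpowers y) = eN L := by
  rw [Nat.card_zpowers, hye]

theorem regular_of_mem {y g : G} (hye : orderOf y = eN L) (hg : g ∈ Subgroup.zpowers y) :
    ¬ p ∣ orderOf g := by
  intro hd
  have h1 := hd.trans (Subgroup.orderOf_dvd_natCard _ hg)
  rw [card_zpowers_gen hye] at h1
  exact absurd (Nat.le_of_dvd (one_le_eN L) h1) (not_le.2 (eN_lt L))

theorem Hyp.eq_one_of_mem (h : Hyp L n) {y g : G} (hye : orderOf y = eN L)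
    (hg : g ∈ Subgroup.zpowers y) (hgC : g ∈ L.C) : g = 1 := by
  rw [h.hC] at hgC
  have h1 : orderOf g ∣ p := by
    have := Subgroup.orderOf_dvd_natCard _ hgC
    rwa [L.hP] at this
  exact orderOf_eq_one_iff.1
    (((Nat.dvd_prime hp.out).1 h1).resolve_right fun e => regular_of_mem hye hg (e ▸ dvd_rfl))

/-- The restriction to a complement, corrected at the identity to the fixed points. -/
theorem Hyp.isCharacter_fix (h : Hyp L n) {y : G} (hy : y ∈ L.N) (hye : orderOf y = eN L)
    {χ : G → ℂ} (hχ : IsCharacter G χ) :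
    IsCharacter (Subgroup.zpowers y)
      (fun g : Subgroup.zpowers y => if g = 1 then fixDim L χ else χ g) :=
  BrauerReynolds.isCharacter_fix L h.hC (zpowers_le_N hy)
    (fun _ hg hgC => h.eq_one_of_mem hye hg hgC) hχ

/-- The fixed point dimension from a constant value on the Sylow subgroup. -/
theorem fixDim_eq {χ : G → ℂ} {a : ℂ} (hv : ∀ z ∈ (L.P : Subgroup G), z ≠ 1 → χ z = a) :
    fixDim L χ = (χ 1 + ((p : ℂ) - 1) * a) / p := by
  rw [fixDim, ← Finset.add_sum_erase _ _ (Finset.mem_univ (1 : (L.P : Subgroup G))),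
    Finset.sum_congr rfl fun (z : ↥(L.P : Subgroup G)) hz =>
      hv (z : G) z.2 fun e => Finset.ne_of_mem_erase hz (Subtype.ext e),
    Finset.sum_const, Finset.card_erase_of_mem (Finset.mem_univ _), Finset.card_univ,
    ← Nat.card_eq_fintype_card, L.hP, nsmul_eq_mul, Nat.cast_sub hp.out.one_le, Nat.cast_one,
    Subgroup.coe_one]
  ring

theorem Hyp.zero_of_minus (h : Hyp L n) {χ : G → ℂ} (hχ : IsCharacter G χ)
    (h1 : χ 1 = (p : ℂ) - 1) (hv : ∀ z ∈ (L.P : Subgroup G), z ≠ 1 → χ z = -1)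
    {y : G} (hy : y ∈ L.N) (hye : orderOf y = eN L) {g : G} (hg : g ∈ Subgroup.zpowers y)
    (hg1 : g ≠ 1) : χ g = 0 := by
  have h0 := CfsgLib.NormalAvg.eq_zero_of_degree_zero (h.isCharacter_fix hy hye hχ)
    (by rw [if_pos rfl, fixDim_eq hv, h1]; ring)
  have := congrFun h0 ⟨g, hg⟩
  rwa [if_neg fun e => hg1 (congrArg Subtype.val e)] at this

theorem Hyp.even_q_of_minus (h : Hyp L n) {χ : G → ℂ} (hχ : IsCharacter G χ)
    (h1 : χ 1 = (p : ℂ) - 1) (hv : ∀ z ∈ (L.P : Subgroup G), z ≠ 1 → χ z = -1)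
    (he : Even (eN L)) : Even (qN L) := by
  obtain ⟨y, hy, hye⟩ := h.exists_gen
  refine even_of_regular h.perf hχ (y := y) ?_ (fun j hj hje => ?_) (hye ▸ he)
  · rw [h1, hye, eN_mul_qN' L, Nat.cast_sub hp.out.one_le, Nat.cast_one]
  · refine h.zero_of_minus hχ h1 hv hy hye (Subgroup.npow_mem_zpowers y j) ?_
    exact pow_ne_one_of_lt_orderOf hj.ne' hje

end CfsgLib.BrauerReynolds
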